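import Cfsg.Agent.DL.PP.Kap
import Cfsg.Agent.H40.OC.Cong

/-!
# The mean over the regular unipotent elements (helper89)
-/

set_option autoImplicit false
set_option maxHeartbeats 400000
set_option linter.unusedSectionVars false

namespace Cfsg.Agent.DL.PP

open Cfsg CoxeterSystem Cfsg.Agent.ChevalleyStructure.CoxeterGeom Cfsg.Agent.Tits.Roots Cfsg.Agent.Nodes.Reps
  Cfsg.Agent.Nodes.BNOf Cfsg.Agent.DL.Uni Cfsg.Agent.DL.Asm Cfsg.Agent.DL.St Cfsg.Agent.H40.OC
  Cfsg.Agent.Characters.Core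
open scoped ComplexConjugate

theorem sum_mr_le {H ι : Type} [Group H] [Fintype H] [Fintype (IrrCharacter H)] (U : Subgroup H) [Fintype U]
    (E : ι → Subgroup H) {b : ℕ} (h0 : (Sys.Reg U E).card ≠ 0)
    (hb : ∀ u ∈ Sys.Reg U E, Nat.card {x : H // x⁻¹ * u * x ∈ U} ≤ b) :
    ∑ χ : IrrCharacter H, Complex.normSq (mr U E χ) ≤ b / (Sys.Reg U E).card := by
  classical
  let c : H → ℕ := fun g => ∑ x : H, ∑ u ∈ Sys.Reg U E, if g = x * u * x⁻¹ then 1 else 0
  let δ : H → ℂ := fun g => c g / (Sys.Reg U E).card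
  have h1 : ∀ f, IsClassFunction H f → classInner f δ = mr U E f := fun f hf => by
    have : ∑ g, f g * (c g : ℂ) = Nat.card H * ∑ u ∈ Sys.Reg U E, f u := by
      simp only [c, Nat.cast_sum, Finset.mul_sum, Nat.cast_ite, Nat.cast_one, Nat.cast_zero, mul_ite, mul_one, mul_zero]
      rw [Finset.sum_comm]
      simp only [Finset.sum_comm (s := Finset.univ) (t := Sys.Reg U E), Finset.sum_ite_eq', Finset.mem_univ, if_true, hf _ _,
        Finset.sum_const, Finset.card_univ, nsmul_eq_mul, Nat.card_eq_fintype_card]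
    simp only [classInner, δ, map_div₀, map_natCast, ← mul_div_assoc, ← Finset.sum_div, this, mr,
      inv_mul_cancel_left₀ (card_ne_zero_complex (G := H))]
  have h2 : IsClassFunction H δ := fun g h => by
    simp only [δ, c]
    rw [← Equiv.sum_comp (Equiv.mulLeft h)]
    congr 2
    refine Finset.sum_congr rfl fun x _ => Finset.sum_congr rfl fun u _ => if_congr ?_ rfl rfl
    rw [Equiv.coe_mulLeft, show h * x * u * (h * x)⁻¹ = h * (x * u * x⁻¹) * h⁻¹ by group, mul_left_inj, mul_right_inj]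
  have h3 := classInner_eq_sum h2 h2
  simp only [Complex.mul_conj, fun χ : IrrCharacter H => (classInner_conj_symm (χ : H → ℂ) δ).symm, Complex.normSq_conj,
    fun χ : IrrCharacter H => h1 _ (isIrr_isClassFunction χ.2)] at h3
  rw [h1 δ h2, mr] at h3
  have h4 : ∑ χ : IrrCharacter H, Complex.normSq (mr U E χ) =
      (∑ u ∈ Sys.Reg U E, (c u : ℝ) / (Sys.Reg U E).card) / (Sys.Reg U E).card := by
    apply Complex.ofReal_injective
    push_cast
    exact h3.symm
  have h5 : (0 : ℝ) < (Sys.Reg U E).card := Nat.cast_pos.2 (Nat.pos_of_ne_zero h0)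
  rw [h4, ← Finset.sum_div, div_le_div_iff_of_pos_right h5, div_le_iff₀ h5, mul_comm, ← nsmul_eq_mul]
  refine Finset.sum_le_card_nsmul _ _ _ fun u hu => Nat.cast_le.2 (le_trans ?_ (hb u hu))
  rw [Nat.card_eq_fintype_card, Fintype.card_subtype, Finset.card_filter]
  refine Finset.sum_le_sum fun x _ => ?_
  split_ifs with h
  · rw [← Finset.card_filter]
    refine Finset.card_le_one.2 fun a ha b hb => Subtype.ext ?_
    simpa using (Finset.mem_filter.1 ha).2.symm.trans (Finset.mem_filter.1 hb).2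
  · exact (Finset.sum_eq_zero fun v _ => if_neg fun e => h (by rw [e]; simp [mul_assoc])).le

variable {p : ℕ} [Fact p.Prime] {k : Type} [Field k] [CharP k p] {Y : Type} [Group Y] {N : Type} [Fintype N]
  [DecidableEq N] {ρ : Y →* GL N k} {F : MulAut Y} {G : Subgroup Y} [IsAlgClosed k] (D : Datum p ρ F G)

/-- the orbits of `F` on the simple roots -/
abbrev Ob : Type := Quotient (Equiv.Perm.SameCycle.setoid D.σ)

/-- the rational points of `U` -/
abbrev UH : Subgroup (GF F G) := D.U.subgroupOf (GF F G)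

/-- the rational points of `T` -/
abbrev TH : Subgroup (GF F G) := D.T.subgroupOf (GF F G)

/-- the rational points of `U` with trivial coordinates in an orbit -/
def Do (o : Ob D) : Subgroup (GF F G) where
  carrier := {u | (u : Y) ∈ D.U ∧ ∀ i, Quotient.mk _ i = o → kap D i u = 0}
  one_mem' := ⟨one_mem _, fun i _ => kap_one i⟩
  mul_mem' := fun ha hb => ⟨mul_mem ha.1 hb.1, fun i hi => by
    rw [Subgroup.coe_mul, kap_mul i ha.1 hb.1, ha.2 i hi, hb.2 i hi, add_zero]⟩
  inv_mem' := fun ha => ⟨inv_mem ha.1, fun i hi => by rw [Subgroup.coe_inv, kap_inv i ha.1, ha.2 i hi, neg_zero]⟩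

variable {D}

theorem mem_Do {o : Ob D} {u : GF F G} : u ∈ Do D o ↔ (u : Y) ∈ D.U ∧ ∀ i, Quotient.mk _ i = o → kap D i u = 0 := Iff.rfl

theorem mS {K : Subgroup Y} {u : GF F G} (hu : u ∈ K.subgroupOf (GF F G)) : (u : Y) ∈ K := hu

theorem mem_normalizer_of {H : Type} [Group H] {K L : Subgroup H} (h : ∀ x ∈ L, ∀ y ∈ K, x * y * x⁻¹ ∈ K) :
    L ≤ Subgroup.normalizer (K : Set H) := fun x hx => Subgroup.mem_normalizer_iff.2 fun y =>
  ⟨h x hx y, fun hy => by simpa [mul_assoc] using h _ (inv_mem hx) _ hy⟩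

variable (h : D.QS)
include h

theorem kap_fix {u : GF F G} (hu : u ∈ UH D) (i : D.I) :
    kap D (D.σ i) u = gam D i * kap D i u ^ p ^ D.ex (sr i) := by
  rw [← kap_F h i (mS hu), (mem_GF.1 u.2).2]

theorem reg_iff {u : GF F G} (hu : u ∈ UH D) : (∀ o, u ∉ Do D o) ↔ ∀ i, kap D i u ≠ 0 := by
  refine ⟨fun h1 i h2 => h1 (Quotient.mk _ i) ⟨hu, fun j hj => ?_⟩, fun h1 o h2 => h1 _ (h2.2 o.out o.out_eq)⟩
  obtain ⟨m, -, rfl⟩ := (Quotient.exact hj.symm : D.σ.SameCycle i j).exists_pow_eq'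
  clear hj
  induction m with
  | zero => exact h2
  | succ m ih => rw [pow_succ', Equiv.Perm.mul_apply, kap_fix h hu, ih,
      zero_pow (pow_ne_zero _ (Fact.out : p.Prime).ne_zero), mul_zero]

theorem sys (hZ : CZ D) : H40.OC.Sys (UH D) (TH D) (Do D) where
  tU := mem_normalizer_of fun _ ht _ hu => D.conj_mem_U_of_T ht hu
  le _ _ hu := hu.1
  uD o := mem_normalizer_of fun x hx y hy => ⟨mul_mem (mul_mem hx hy.1) (inv_mem hx), fun i hi => by
    rw [Subgroup.coe_mul, Subgroup.coe_mul, Subgroup.coe_inv, kap_mul i (mul_mem (mS hx) hy.1) (inv_mem (mS hx)),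
      kap_mul i (mS hx) hy.1, kap_inv i (mS hx), hy.2 i hi, add_zero, add_neg_cancel]⟩
  tD o := mem_normalizer_of fun x hx y hy => ⟨D.conj_mem_U_of_T hx hy.1, fun i hi => by
    rw [Subgroup.coe_mul, Subgroup.coe_mul, Subgroup.coe_inv, kap_conj i (mS hx) hy.1, hy.2 i hi, mul_zero]⟩
  co o a ha := by
    classical
    obtain ⟨x, hx, h1⟩ := exists_kap_fix h (a := fun i => if Quotient.mk _ i = o then kap D i a else 0) fun i => by
      rw [show Quotient.mk _ (D.σ i) = (Quotient.mk _ i : Ob D) from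
        Quotient.sound (Equiv.Perm.sameCycle_apply_left.2 (Equiv.Perm.SameCycle.refl _ _))]
      split_ifs
      · exact kap_fix h ha i
      · rw [zero_pow (pow_ne_zero _ (Fact.out : p.Prime).ne_zero), mul_zero]
    refine ⟨⟨x, hx.2⟩, hx.1, ⟨mul_mem (inv_mem hx.1) ha, fun i hi => ?_⟩, fun o' ho => ⟨hx.1, fun i hi => ?_⟩⟩
    · rw [Subgroup.coe_mul, Subgroup.coe_inv, kap_mul i (inv_mem hx.1) (mS ha), kap_inv i hx.1, h1, if_pos hi, neg_add_cancel]
    · rw [h1, if_neg (hi ▸ ho)]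
  ne o := by
    obtain ⟨a, ha⟩ := exists_fix_unit h
    obtain ⟨x, hx, h1⟩ := exists_kap_fix h (a := fun i => a i) fun i => by rw [ha]; simp
    exact ⟨⟨x, hx.2⟩, hx.1, (reg_iff h (u := ⟨x, hx.2⟩) hx.1).2 (fun i => by rw [h1]; exact (a i).ne_zero) o⟩
  tr a ha b hb h1 h2 := by
    rw [reg_iff h ha] at h1
    rw [reg_iff h hb] at h2
    obtain ⟨t, ht, h3⟩ := exists_T h hZ (s := fun i => Units.mk0 _ (h1 i) / Units.mk0 _ (h2 i)) fun i => Units.ext (by
      simp only [Units.val_div_eq_div_val, Units.val_mk0, Units.val_pow_eq_pow_val, kap_fix h ha, kap_fix h hb, div_pow]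
      rw [mul_div_mul_left _ _ (gam D i).ne_zero])
    have h4 : t⁻¹ * a * t ∈ D.U := by simpa using D.conj_mem_U_of_T (inv_mem ht.1) (mS ha)
    refine ⟨⟨t, ht.2⟩, ht.1, fun o => ⟨mul_mem (inv_mem h4) hb, fun i _ => ?_⟩⟩
    have h5 := kap_conj i (inv_mem ht.1) (mS ha)
    rw [inv_inv, D.χ_inv _ ht.1, h3] at h5
    show kap D i ((t⁻¹ * a * t)⁻¹ * b) = 0
    rw [kap_mul i (inv_mem h4) (mS hb), kap_inv i h4, h5, Units.val_div_eq_div_val, Units.val_mk0, Units.val_mk0, inv_div,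
      div_mul_cancel₀ _ (h1 i), neg_add_cancel]

theorem card_reg [Fintype (UH D)] : Nat.card (UH D) * (Psi D - 1).det.natAbs ≤
    (Sys.Reg (UH D) (Do D)).card * ∏ i, p ^ D.ex (sr i) := by
  obtain ⟨a, ha⟩ := exists_fix_unit h
  obtain ⟨f1, h1⟩ := card_fix_le (p := p) (k := k) D.σ (fun i => D.ex (sr i)) (exists_ex h)
  choose x hx h2 using fun b : {b : D.I → k // ∀ i, b (D.σ i) = b i ^ p ^ D.ex (sr i)} =>
    exists_kap_fix h (a := fun i => a i * b.1 i) fun i => by rw [ha, b.2, mul_pow]; simp [mul_assoc]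
  let K := {u : UH D // ∀ i, kap D i (u : GF F G) = 0}
  let x' : _ → UH D := fun b => ⟨⟨x b, (hx b).2⟩, (hx b).1⟩
  have h3 : Nat.card (UH D) ≤ Nat.card K * ∏ i, p ^ D.ex (sr i) := by
    refine le_trans ?_ (Nat.mul_le_mul_left _ h1)
    rw [← Nat.card_prod]
    let β : UH D → {b : D.I → k // ∀ i, b (D.σ i) = b i ^ p ^ D.ex (sr i)} := fun u =>
      ⟨fun i => kap D i (u : GF F G) / a i, fun i => by
        beta_reduce
        rw [kap_fix h u.2, ha, div_pow, Units.val_mul, mul_div_mul_left _ _ (gam D i).ne_zero, Units.val_pow_eq_pow_val]⟩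
    refine Nat.card_le_card_of_injective (fun u => (⟨(x' (β u))⁻¹ * u, fun i => ?_⟩, β u)) fun u v e => ?_
    · show kap D i ((x (β u))⁻¹ * (u : GF F G)) = 0
      rw [kap_mul i (inv_mem (hx _).1) (mS u.2), kap_inv i (hx _).1, h2, mul_div_cancel₀ _ (a i).ne_zero, neg_add_cancel]
    · have e1 := congrArg (·.1.1) e
      simp only [show β u = β v from congrArg (·.2) e] at e1
      exact mul_left_cancel e1
  have h4 : Nat.card K * (Psi D - 1).det.natAbs ≤ (Sys.Reg (UH D) (Do D)).card := by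
    rw [← card_ker_mon (det_Psi_sub_one h), ← Nat.card_prod, ← Nat.card_eq_finsetCard]
    let β : (mon (Psi D - 1) : (D.I → kˣ) →* _).ker → {b : D.I → k // ∀ i, b (D.σ i) = b i ^ p ^ D.ex (sr i)} := fun s =>
      ⟨fun i => s.1 i, fun i => by
        have := s.2
        rw [MonoidHom.mem_ker, mon_sub, mon_one, mul_inv_eq_one] at this
        rw [← Units.val_pow_eq_pow_val, ← mon_Psi, this]⟩
    have h5 : ∀ (z : K) s i, kap D i ((x' (β s) * z.1 : UH D) : GF F G) = a i * s.1 i := fun z s i => by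
      show kap D i (x (β s) * (z.1 : GF F G)) = _
      rw [kap_mul i (hx _).1 (mS z.1.2), h2, z.2, add_zero]
    refine Nat.card_le_card_of_injective (fun z => ⟨x' (β z.2) * z.1.1, Sys.mem_Reg.2 ((reg_iff h (Subtype.prop _)).2
      fun i => by rw [h5]; exact mul_ne_zero (a i).ne_zero (z.2.1 i).ne_zero)⟩) fun z z' e => ?_
    have e1 : x' (β z.2) * z.1.1 = x' (β z'.2) * z'.1.1 := congrArg Subtype.val e
    have e2 : z.2 = z'.2 := Subtype.ext (funext fun i => Units.ext (mul_left_cancel₀ (a i).ne_zero (by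
      rw [← h5 z.1, e1, h5])))
    rw [e2] at e1
    exact Prod.ext (Subtype.ext (mul_left_cancel e1)) e2
  calc _ ≤ Nat.card K * (∏ i, p ^ D.ex (sr i)) * (Psi D - 1).det.natAbs := Nat.mul_le_mul_right _ h3
    _ = Nat.card K * (Psi D - 1).det.natAbs * ∏ i, p ^ D.ex (sr i) := mul_right_comm _ _ _
    _ ≤ _ := Nat.mul_le_mul_right _ h4

omit h in
/-- a regular unipotent element lies in a unique Borel subgroup -/
theorem mem_B_of_reg {u g : Y} (hu : u ∈ D.U) (h1 : ∀ i, kap D i u ≠ 0) (hg : g ∈ G) (h2 : g⁻¹ * u * g ∈ D.U) :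
    g ∈ Par D.sbn ∅ := by
  by_contra h3
  obtain ⟨i, v, hv, h4⟩ := exists_descent D.sbn hg h3
  have h5 := mul_mem (mul_mem (inv_mem hv) hu) hv
  have h6 := (kap_eq_zero_iff h5).2 ((mem_PW_iff D i h5).1 (h4 u hu (U_le_Par D.sbn _ h2)))
  rw [kap_mul i (mul_mem (inv_mem hv) hu) hv, kap_mul i (inv_mem hv) hu, kap_inv i hv] at h6
  exact h1 i (by linear_combination h6)

theorem sum_mr_le_cls (hZ : CZ D) [Fintype (UH D)] [Fintype (IrrCharacter (GF F G))] :
    ∑ χ : IrrCharacter (GF F G), Complex.normSq (mr (UH D) (Do D) χ) ≤ Nat.card (Quotient (clsSetoid D)) := by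
  have := finite_GF D
  have := Fintype.ofFinite (GF F G)
  have := Fintype.ofFinite D.W
  have := Fintype.ofFinite (Ob D)
  have h0 := (sys h hZ).reg_nonempty
  refine (sum_mr_le (UH D) (Do D) (b := Nat.card ↥((Par D.sbn ∅).subgroupOf (GF F G))) h0 fun u hu =>
    Nat.card_le_card_of_injective (fun x => ⟨x.1, mem_B_of_reg u.2 ((reg_iff h u.2).1 (Sys.mem_Reg.1 hu)) x.1.2.1 x.2⟩)
      fun a b e => Subtype.ext (congrArg (·.1) e)).trans ?_
  rw [div_le_iff₀ (Nat.cast_pos.2 (Nat.pos_of_ne_zero h0)), card_B D.sbn (aut_qs h) fun _ => mem_GF, D.card_TF,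
    ← Nat.cast_mul, Nat.cast_le]
  have h1 := card_reg h
  have h2 := card_le_sum h
  rw [← card_cls, mul_comm _ (Fintype.card D.W), mul_assoc] at h2
  have h3 := Nat.le_of_mul_le_mul_left h2 Fintype.card_pos
  rw [show Nat.card (UH D) = Nat.card ↥(D.U ⊓ GF F G) by
    rw [← Nat.card_congr (Subgroup.subgroupOfEquivOfLe (inf_le_right : D.U ⊓ GF F G ≤ _)).toEquiv,
      Subgroup.inf_subgroupOf_right]] at h1
  refine Nat.le_of_mul_le_mul_right ?_ (Int.natAbs_pos.2 fun e : (Psi D - 1).det = 0 =>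
    det_Psi_sub_one h (by rw [e, Int.cast_zero]))
  calc _ = Nat.card ↥(D.U ⊓ GF F G) * (Psi D - 1).det.natAbs * (D.Mx - 1).det.natAbs := mul_right_comm _ _ _
    _ ≤ (Sys.Reg (UH D) (Do D)).card * ((D.Mx - 1).det.natAbs * ∏ i, p ^ D.ex (sr i)) := by
      rw [mul_comm (D.Mx - 1).det.natAbs, ← mul_assoc]
      exact Nat.mul_le_mul_right _ h1
    _ ≤ _ := by
      rw [mul_comm (Nat.card _), mul_assoc]
      exact Nat.mul_le_mul_left _ h3

theorem exists_lam (hZ : CZ D) : ∃ lam, Lam (UH D) (Do D) lam := by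
  have := finite_GF D
  have h1 : ∀ o, ∃ f : UH D →* ℂˣ, (∀ u : UH D, (u : GF F G) ∈ Do D o → f u = 1) ∧ f ≠ 1 := fun o => by
    obtain ⟨a, ha, h2⟩ := (sys h hZ).ne o
    let φ : UH D →* Multiplicative k := MonoidHom.mk' (fun u => Multiplicative.ofAdd (kap D o.out (u : GF F G)))
      fun u v => congrArg Multiplicative.ofAdd (kap_mul _ u.2 v.2)
    obtain ⟨a', ha', h3⟩ := exists_fix_unit h |>.elim fun a ha =>
      (exists_kap_fix h (a := fun i => a i) fun i => by rw [ha]; simp).imp fun x hx =>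
        And.intro hx.1 (by rw [hx.2]; exact (a o.out).ne_zero : kap D o.out x ≠ 0)
    have : Finite φ.range := Finite.of_surjective _ φ.rangeRestrict_surjective
    obtain ⟨θ, hθ⟩ := exists_hom_ne_one (K := φ.range) (fun a _ b _ => mul_comm a b)
      (k := φ.rangeRestrict ⟨⟨a', ha'.2⟩, ha'.1⟩) fun e => h3 (congrArg Subtype.val e)
    refine ⟨θ.comp φ.rangeRestrict, fun u hu => ?_, fun e => hθ (DFunLike.congr_fun e _)⟩
    rw [MonoidHom.comp_apply, show φ.rangeRestrict u = 1 from Subtype.ext (hu.2 _ o.out_eq), map_one]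
  choose f h2 h3 using h1
  exact ⟨f, h2, h3⟩

end Cfsg.Agent.DL.PP
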