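import Cfsg.Agent.DL.PP.Det

/-!
# Geometric conjugacy classes: the combinatorics (helper89)

A character of the cocharacter lattice is a vector `c : R → ℂˣ` (`v ↦ chr v c`).  `Fx w c` : `c` is fixed by `w F`;
`Rel u c c'` : `u` maps `c` to `c'`.  `exists_good` : every class contains a character in general position in a
rational Levi subgroup of a rational parabolic subgroup; `card_cls` counts the classes.
-/

set_option autoImplicit false
set_option linter.unusedSectionVars false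

namespace Cfsg.Agent.DL.PP

open CoxeterSystem Cfsg.Agent.ChevalleyStructure.CoxeterGeom Cfsg.Agent.Tits.Roots Cfsg.Agent.Nodes.Reps
  Cfsg.Agent.Nodes.BNOf Cfsg.Agent.Nodes.Coroot Cfsg.Agent.Nodes Matrix

variable {p : ℕ} [Fact p.Prime] {k : Type} [Field k] [CharP k p] {Y : Type} [Group Y] {N : Type} [Fintype N]
  [DecidableEq N] {ρ : Y →* GL N k} {F : MulAut Y} {G : Subgroup Y} [IsAlgClosed k] (D : Datum p ρ F G)

/-- `u` maps `c` to `c'` -/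
def Rel (u : D.W) (c c' : D.R → ℂˣ) : Prop := ∀ v, chr (D.Wm u *ᵥ v) c' = chr v c

/-- `c` is fixed by `w F` -/
def Fx (w : D.W) (c : D.R → ℂˣ) : Prop := ∀ v, chr ((D.Wm w * D.Mx) *ᵥ v) c = chr v c

/-- a common splitting level of all rational tori -/
structure Lvl (d e : ℕ) : Prop where
  d_pos : 0 < d
  e_pos : 0 < e
  pow : ∀ w, (D.Wm w * D.Mx) ^ d = ((p : ℤ) ^ e) • (1 : Matrix D.R D.R ℤ)

theorem exists_lvl : ∃ d e, Lvl D d e := by
  choose y hy hw using D.exists_type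
  choose m hm h using fun w => (D.conj (hy w) ⟨w, hw w⟩).exists_split
  have := Fintype.ofFinite D.W
  have h0 : 0 < ∏ w, m w := Finset.prod_pos fun w _ => hm w
  refine ⟨D.amb.d * ∏ w, m w, D.amb.e * ∏ w, m w, mul_pos D.amb.d_pos h0, mul_pos D.amb.e_pos h0, fun w => ?_⟩
  have := (D.conj (hy w) ⟨w, hw w⟩).Mx_pow (h w _ h0 (Finset.dvd_prod_of_mem _ (Finset.mem_univ w)))
  rwa [D.conj_Mx, (hw w).pr_eq] at this

theorem chr_tr (B : Matrix D.R D.R ℤ) (v : D.R → ℤ) (c : D.R → ℂˣ) : chr v (mon Bᵀ c) = chr (B *ᵥ v) c := by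
  rw [chr_mon, vecMul_transpose]

theorem eq_of_chr {c c' : D.R → ℂˣ} (h : ∀ v, chr v c = chr v c') : c = c' :=
  funext fun j => by rw [← chr_single j c, h, chr_single]

theorem rel_one (c : D.R → ℂˣ) : Rel D 1 c c := fun v => by rw [D.Wm_one, one_mulVec]

variable {D}

theorem Rel.trans {u u' : D.W} {c c' c'' : D.R → ℂˣ} (h : Rel D u c c') (h' : Rel D u' c' c'') :
    Rel D (u' * u) c c'' := fun v => by rw [D.Wm_mul, ← mulVec_mulVec, h', h]

theorem Rel.symm {u : D.W} {c c' : D.R → ℂˣ} (h : Rel D u c c') : Rel D u⁻¹ c' c := fun v => by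
  rw [← h, mulVec_mulVec, ← D.Wm_mul, mul_inv_cancel, D.Wm_one, one_mulVec]

theorem Fx.rel {w u : D.W} {c c' : D.R → ℂˣ} (h : Fx D w c) (h' : Rel D u c c') : Fx D (u * w * (D.Fw u)⁻¹) c' :=
  fun v => by
    rw [← map_inv, D.Wm_mul, mul_assoc, ← D.Mx_Wm, D.Wm_mul, mul_assoc, ← mulVec_mulVec, h', ← mul_assoc,
      ← mulVec_mulVec, h, h'.symm]

theorem Fx.mul {w u : D.W} {c : D.R → ℂˣ} (h : Fx D w c) (h' : Rel D u c c) : Fx D (u * w) c := fun v => by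
  rw [D.Wm_mul, mul_assoc, ← mulVec_mulVec, h', h]

theorem Fx.div {w w' : D.W} {c : D.R → ℂˣ} (h : Fx D w c) (h' : Fx D w' c) {d e : ℕ} (L : Lvl D d e) :
    Rel D (w' * w⁻¹) c c := fun v => by
  have h1 : ∀ m v, chr ((D.Wm w * D.Mx) ^ m *ᵥ v) c = chr v c := fun m => by
    induction m with
    | zero => intro v; rw [pow_zero, one_mulVec]
    | succ m ih => intro v; rw [pow_succ', ← mulVec_mulVec, h, ih]
  obtain ⟨m, hm⟩ := Nat.exists_eq_succ_of_ne_zero L.d_pos.ne'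
  have h2 : ∀ v, chr (((p : ℤ) ^ e) • v) c = chr v c := fun v => by rw [← h1 d v, L.pow, smul_mulVec, one_mulVec]
  rw [← h2, ← mulVec_smul, ← one_mulVec v, ← smul_mulVec, ← L.pow w, hm, pow_succ', ← mulVec_mulVec,
    mulVec_mulVec, ← mul_assoc, ← D.Wm_mul, inv_mul_cancel_right, h', h1, one_mulVec]

theorem Fx.pow {w : D.W} {c : D.R → ℂˣ} (h : Fx D w c) {d e : ℕ} (L : Lvl D d e) (v : D.R → ℤ) :
    chr v c ^ p ^ e = chr v c := by
  have h1 : ∀ m v, chr ((D.Wm w * D.Mx) ^ m *ᵥ v) c = chr v c := fun m => by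
    induction m with
    | zero => intro v; rw [pow_zero, one_mulVec]
    | succ m ih => intro v; rw [pow_succ', ← mulVec_mulVec, h, ih]
  conv_rhs => rw [← h1 d v, L.pow, smul_mulVec, one_mulVec, chr_zsmul, ← Nat.cast_pow, zpow_natCast]

theorem Fx.cor_iff {w : D.W} {c : D.R → ℂˣ} (h : Fx D w c) {d e : ℕ} (L : Lvl D d e) {a : D.I → ℤ} (ha : D.Rt a) :
    chr (D.cor (D.act w (D.g a))) c = 1 ↔ chr (D.cor a) c = 1 := by
  have h1 := h (D.cor a)
  rw [← mulVec_mulVec, D.Mx_cor ha, mulVec_smul, ← D.cor_act w (D.g_root a ha), chr_zsmul, ← Nat.cast_pow,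
    zpow_natCast] at h1
  refine ⟨fun h2 => by rw [← h1, h2, one_pow], fun h2 => ?_⟩
  have h3 : ∀ m, chr (D.cor (D.act w (D.g a))) c ^ p ^ (e * m) = chr (D.cor (D.act w (D.g a))) c := fun m => by
    induction m with
    | zero => simp
    | succ m ih => rw [mul_add_one, pow_add, pow_mul, ih, h.pow L]
  obtain ⟨j, hj⟩ := Nat.exists_eq_add_of_le (Nat.le_mul_of_pos_left (D.ex a) L.e_pos)
  rw [← h3 (D.ex a), hj, pow_add, pow_mul, h1, h2, one_pow]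

theorem wt_gw (w : D.W) {a : D.I → ℤ} (ha : D.Rt a) :
    D.wt (D.act w (D.g a)) ᵥ* (D.Wm w * D.Mx) = ((p : ℤ) ^ D.ex a) • D.wt a := by
  rw [← vecMul_vecMul, D.wt_act, D.wt_g ha]

theorem gw_surj (w : D.W) {b : D.I → ℤ} (hb : D.Rt b) : ∃ a, D.Rt a ∧ D.act w (D.g a) = b := by
  obtain ⟨a, ha, e⟩ := D.g_surj (hb.act w⁻¹)
  exact ⟨a, ha, by rw [e]; exact act_act_inv D w b⟩

theorem rel_rf {c : D.R → ℂˣ} {a : D.I → ℤ} (ha : D.Rt a) (h : chr (D.cor a) c = 1) : Rel D (D.rf a) c c := fun v => by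
  rw [D.Wm_rf ha, sub_mulVec, one_mulVec, vecMulVec_mulVec, chr_sub, op_smul_eq_smul, chr_zsmul, h, _root_.one_zpow,
    inv_one, mul_one]

theorem CZ.exists_lam (hZ : CZ D) (l : (D.I → ℤ) →+ ℤ) :
    ∃ (n : ℤ) (lam : D.R → ℤ), 0 < n ∧ ∀ b, D.wt b ⬝ᵥ lam = (n • l) b := by
  obtain ⟨m, ϖ, h⟩ := hZ
  refine ⟨p ^ m, ∑ i, l (sr i) • ϖ i, pow_pos (Nat.cast_pos.2 (Fact.out : p.Prime).pos) m, fun b => ?_⟩
  rw [dotProduct_sum, AddMonoidHom.smul_apply, D.map_eq_sum l b, smul_eq_mul, Finset.mul_sum]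
  exact Finset.sum_congr rfl fun i _ => by rw [dotProduct_smul, h, smul_eq_mul, mul_comm, mul_assoc]

/-- a linear form on the root lattice -/
noncomputable def frm (B : Matrix D.R D.R ℤ) (lam : D.R → ℤ) : (D.I → ℤ) →+ ℝ :=
  AddMonoidHom.mk' (fun b => ((D.wt b ᵥ* B ⬝ᵥ lam : ℤ) : ℝ)) fun a b => by
    rw [map_add, add_vecMul, add_dotProduct, Int.cast_add]

theorem frm_apply (B : Matrix D.R D.R ℤ) (lam : D.R → ℤ) (b : D.I → ℤ) :
    frm B lam b = ((D.wt b ᵥ* B ⬝ᵥ lam : ℤ) : ℝ) := rfl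

theorem frm_gw (w : D.W) (B : Matrix D.R D.R ℤ) (lam : D.R → ℤ) {a : D.I → ℤ} (ha : D.Rt a) :
    frm (D.Wm w * D.Mx * B) lam (D.act w (D.g a)) = (p : ℝ) ^ D.ex a * frm B lam a := by
  rw [frm_apply, frm_apply, ← vecMul_vecMul, wt_gw w ha, smul_vecMul, smul_dotProduct, smul_eq_mul]
  push_cast
  rfl

omit [IsAlgClosed k] in
theorem q_pos' (a : D.I → ℤ) : (0 : ℝ) < (p : ℝ) ^ D.ex a := pow_pos (Nat.cast_pos.2 (Fact.out : p.Prime).pos) _

/-- step 1: the twisted Frobenius can be chosen to fix a positive system of the roots of `c` -/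
theorem exists_pos {w : D.W} {c : D.R → ℂˣ} (h : Fx D w c) {d e : ℕ} (L : Lvl D d e) {lam : D.R → ℤ}
    (hl : ∀ a, D.Rt a → frm 1 lam a ≠ 0) : ∃ w', Fx D w' c ∧ ∀ a, D.Rt a → chr (D.cor a) c = 1 →
      (0 < frm 1 lam (D.act w' (D.g a)) ↔ 0 < frm 1 lam a) := by
  let H : Subgroup D.W := ⟨⟨⟨{u | Rel D u c c}, fun ha hb => hb.trans ha⟩, rel_one D c⟩, fun ha => ha.symm⟩
  obtain ⟨u, hu, h1⟩ := exists_align D H (frm 1 lam) (frm (D.Wm w * D.Mx * 1) lam)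
  refine ⟨u * w, h.mul hu, fun a ha hc => ?_⟩
  have hb := (D.g_root a ha).act w
  have h2 := h1 _ hb (rel_rf hb ((h.cor_iff L ha).2 hc))
  rw [frm_gw w 1 lam ha, mul_left_comm, mul_nonneg_iff_of_pos_left (q_pos' a), ← CF.act_mul] at h2
  have h3 := hl a ha
  have h4 := hl _ ((D.g_root a ha).act (u * w))
  exact ⟨fun h5 => lt_of_le_of_ne (nonneg_of_mul_nonneg_right h2 h5 |>.trans_eq rfl) h3.symm,
    fun h5 => lt_of_le_of_ne (nonneg_of_mul_nonneg_left h2 h5) h4.symm⟩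

/-- step 2: an eigenvector of the twisted Frobenius that is regular on the roots of `c` -/
theorem exists_ray {w : D.W} {c : D.R → ℂˣ} (h : Fx D w c) {d e : ℕ} (L : Lvl D d e) {lam : D.R → ℤ}
    (hl : ∀ a, D.Rt a → frm 1 lam a ≠ 0) (hw : ∀ a, D.Rt a → chr (D.cor a) c = 1 →
      (0 < frm 1 lam (D.act w (D.g a)) ↔ 0 < frm 1 lam a)) : ∃ r : (D.I → ℤ) →+ ℝ,
      (∀ a, D.Rt a → (0 < r (D.act w (D.g a)) ↔ 0 < r a)) ∧ ∀ a, D.Rt a → chr (D.cor a) c = 1 → r a ≠ 0 := by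
  have hp : (0 : ℝ) < (p : ℝ) ^ e := pow_pos (Nat.cast_pos.2 (Fact.out : p.Prime).pos) _
  obtain ⟨q, hq, hq'⟩ : ∃ q : ℝ, 0 < q ∧ q ^ d * (p : ℝ) ^ e = 1 :=
    ⟨(((p : ℝ) ^ e)⁻¹) ^ (d : ℝ)⁻¹, Real.rpow_pos_of_pos (inv_pos.2 hp) _, by
      rw [Real.rpow_inv_natCast_pow (inv_pos.2 hp).le L.d_pos.ne', inv_mul_cancel₀ hp.ne']⟩
  let r : (D.I → ℤ) →+ ℝ := ∑ i ∈ Finset.range d, q ^ i • frm ((D.Wm w * D.Mx) ^ i) lam
  have hr : ∀ b, r b = ∑ i ∈ Finset.range d, q ^ i * frm ((D.Wm w * D.Mx) ^ i) lam b := fun b =>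
    AddMonoidHom.finsetSum_apply _ _ _
  have h1 : ∀ a, D.Rt a → r (D.act w (D.g a)) = q * (p : ℝ) ^ D.ex a * r a := fun a ha => by
    have h2 := (Finset.sum_range_succ (fun i => q ^ i * frm ((D.Wm w * D.Mx) ^ i) lam (D.act w (D.g a))) d).symm.trans
      (Finset.sum_range_succ' _ d)
    have h3 : q ^ d * frm ((D.Wm w * D.Mx) ^ d) lam (D.act w (D.g a)) = frm 1 lam (D.act w (D.g a)) := by
      rw [L.pow, frm_apply, frm_apply, vecMul_smul, smul_dotProduct, smul_eq_mul]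
      push_cast
      rw [← mul_assoc, hq', one_mul]
    rw [h3, pow_zero, pow_zero, one_mul, add_left_inj] at h2
    rw [hr, hr, h2, Finset.mul_sum]
    exact Finset.sum_congr rfl fun i _ => by rw [pow_succ' (D.Wm w * D.Mx), frm_gw w _ lam ha]; ring
  have h2 : ∀ i a, D.Rt a → chr (D.cor a) c = 1 → 0 < frm 1 lam a → 0 < frm ((D.Wm w * D.Mx) ^ i) lam a := fun i => by
    induction i with
    | zero => intro a _ _ h3; rwa [pow_zero]
    | succ i ih =>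
      intro b hb h3 h4
      obtain ⟨a, ha, rfl⟩ := gw_surj w hb
      have h5 := (h.cor_iff L ha).1 h3
      rw [pow_succ', frm_gw w _ lam ha]
      exact mul_pos (q_pos' a) (ih a ha h5 ((hw a ha h5).1 h4))
  have h3 : ∀ a, D.Rt a → chr (D.cor a) c = 1 → 0 < frm 1 lam a → 0 < r a := fun a ha h3 h4 => by
    rw [hr]
    exact Finset.sum_pos (fun i _ => mul_pos (pow_pos hq i) (h2 i a ha h3 h4)) ⟨0, Finset.mem_range.2 L.d_pos⟩
  refine ⟨r, fun a ha => by rw [h1 a ha, mul_pos_iff_of_pos_left (mul_pos hq (q_pos' a))], fun a ha h4 => ?_⟩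
  rcases (hl a ha).lt_or_gt with h5 | h5
  · have := h3 _ ha.neg (by rw [D.cor_neg ha, chr_neg, h4, inv_one]) (by rw [map_neg]; linarith)
    rw [map_neg] at this
    linarith
  · exact (h3 a ha h4 h5).ne'

/-- step 3: a dominant integral form with the same signs -/
theorem exists_int (r : (D.I → ℤ) →+ ℝ) : ∃ (v : D.W) (l : (D.I → ℤ) →+ ℤ), (∀ i, 0 ≤ l (sr i)) ∧
    ∀ a, D.Rt a → (0 < l a ↔ 0 < r (D.act v a)) := by
  classical
  obtain ⟨v, -, hv⟩ := exists_align D ⊤ r ((Int.castAddHom ℝ).comp Slope.htHom)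
  have h1 : ∀ i, 0 ≤ r (D.act v (sr i)) := fun i => nonneg_of_mul_nonneg_left (hv _ (isRoot_sr _ _ i) trivial)
    (by exact_mod_cast Int.cast_pos.2 (D.ht_pos_of_pos _ ⟨isRoot_sr _ _ i, sr_nonneg i⟩))
  let l : (D.I → ℤ) →+ ℤ := AddMonoidHom.mk' (fun b => ∑ i, if r (D.act v (sr i)) = 0 then 0 else b i) fun a b => by
    rw [← Finset.sum_add_distrib]
    exact Finset.sum_congr rfl fun i _ => by split_ifs <;> simp
  have hl : ∀ b, l b = ∑ i, if r (D.act v (sr i)) = 0 then 0 else b i := fun _ => rfl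
  have hr : ∀ b, r (D.act v b) = ∑ i, b i * r (D.act v (sr i)) := fun b => by
    conv_lhs => rw [D.eq_sum_sr b, Datum.act, map_sum, map_sum]
    exact Finset.sum_congr rfl fun i _ => by rw [map_zsmul, map_zsmul, zsmul_eq_mul]
  have n1 : ∀ b : D.I → ℤ, 0 ≤ b → ∀ i ∈ Finset.univ, 0 ≤ if r (D.act v (sr i)) = 0 then 0 else b i :=
    fun b hb i _ => by split_ifs; exacts [le_rfl, hb i]
  have n2 : ∀ b : D.I → ℤ, 0 ≤ b → ∀ i ∈ Finset.univ, 0 ≤ b i * r (D.act v (sr i)) :=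
    fun b hb i _ => mul_nonneg (Int.cast_nonneg (hb i)) (h1 i)
  refine ⟨v, l, fun i => Finset.sum_nonneg (n1 _ (sr_nonneg i)), fun a ha => ?_⟩
  rcases ha.pos_or_neg with h | h
  · rw [hl, hr, Finset.sum_pos_iff_of_nonneg (n1 a h), Finset.sum_pos_iff_of_nonneg (n2 a h)]
    refine exists_congr fun i => and_congr_right fun _ => ?_
    split_ifs with h2
    · simp [h2]
    · rw [mul_pos_iff_of_pos_right (lt_of_le_of_ne (h1 i) (Ne.symm h2)), Int.cast_pos]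
  · have h2 := Finset.sum_nonneg (n1 _ (neg_nonneg.2 h))
    have h3 := Finset.sum_nonneg (n2 _ (neg_nonneg.2 h))
    rw [← hl, map_neg] at h2
    rw [← hr, Datum.act, map_neg, map_neg] at h3
    exact iff_of_false (by omega) (by linarith)

/-- every class contains a character in general position in a rational Levi subgroup -/
theorem exists_good (hZ : CZ D) {w₀ : D.W} {c : D.R → ℂˣ} (h : Fx D w₀ c) :
    ∃ w c' v, Rel D v c' c ∧ Fx D w c' ∧ ∃ (l : (D.I → ℤ) →+ ℤ) (lam : D.R → ℤ), (∀ b, D.wt b ⬝ᵥ lam = l b) ∧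
      (∀ i, 0 ≤ l (sr i)) ∧ (∀ a, D.Rt a → (0 < l (D.act w (D.g a)) ↔ 0 < l a)) ∧
      ∀ u, (∀ a, l (D.act u a) = l a) → Rel D u c' c' → u = 1 := by
  obtain ⟨d, e, L⟩ := exists_lvl D
  obtain ⟨n₀, lam₀, hn₀, h0⟩ := hZ.exists_lam Slope.htHom
  have h1 : ∀ a, D.Rt a → frm 1 lam₀ a ≠ 0 := fun a ha => by
    rw [frm_apply, vecMul_one, h0, Int.cast_ne_zero]
    refine mul_ne_zero hn₀.ne' ?_
    rcases ha.pos_or_neg with h2 | h2
    · exact (D.ht_pos_of_pos a ⟨ha, h2⟩).ne'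
    · have := D.ht_pos_of_pos _ ⟨ha.neg, neg_nonneg.2 h2⟩
      rw [map_neg] at this
      omega
  obtain ⟨w, hw, h2⟩ := exists_pos h L h1
  obtain ⟨r, h3, h4⟩ := exists_ray hw L h1 h2
  obtain ⟨v, l, h5, h6⟩ := exists_int r
  obtain ⟨n, lam, hn', h7⟩ := hZ.exists_lam l
  have h8 : Rel D v (mon (D.Wm v)ᵀ c) c := fun x => (chr_tr D _ x c).symm
  have h9 := hw.rel h8.symm
  refine ⟨_, _, v, h8, h9, n • l, lam, h7, fun i => mul_nonneg hn'.le (h5 i), fun a ha => ?_, fun u hu hc => ?_⟩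
  · refine (mul_pos_iff_of_pos_left hn').trans (Iff.trans ?_ (mul_pos_iff_of_pos_left hn').symm)
    rw [h6 a ha, h6 _ ((D.g_root a ha).act _), ← h3 _ (ha.act v), D.g_act v ha, map_inv, inv_inv, ← CF.act_mul,
      ← CF.act_mul, ← mul_assoc, mul_inv_cancel_left]
  have hn : 0 < p ^ e - 1 := Nat.sub_pos_of_lt (Nat.one_lt_pow L.e_pos.ne' (Fact.out : p.Prime).one_lt)
  have : NeZero (p ^ e - 1) := ⟨hn.ne'⟩
  obtain ⟨ω, hω⟩ : ∃ ω : ℂˣ, IsPrimitiveRoot ω (p ^ e - 1) := by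
    have := Complex.isPrimitiveRoot_exp _ hn.ne'
    exact ⟨(this.isUnit hn.ne').unit, this.isUnit_unit hn.ne'⟩
  have h10 : ∀ j, ∃ i : ℕ, ω ^ i = mon (D.Wm v)ᵀ c j := fun j => by
    obtain ⟨i, -, hi⟩ := hω.eq_pow_of_mem_rootsOfUnity (ξ := mon (D.Wm v)ᵀ c j) (by
      have := h9.pow L (Pi.single j 1)
      rw [chr_single] at this
      rw [mem_rootsOfUnity, ← mul_left_inj (mon (D.Wm v)ᵀ c j), ← pow_succ, Nat.sub_add_cancel (by omega), this,
        one_mul])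
    exact ⟨i, hi⟩
  choose x hx using h10
  have h11 : ∀ y, chr y (mon (D.Wm v)ᵀ c) = ω ^ ((fun j => (x j : ℤ)) ⬝ᵥ y) := fun y => by
    rw [dotProduct_comm, dotProduct, ← chr_coch]
    congr 1
    funext j
    rw [coch_apply, zpow_natCast, hx]
  refine eq_one_of_fix D hZ (x := fun j => (x j : ℤ)) (n := (p ^ e - 1 : ℕ)) (by exact_mod_cast hn)
    (Nat.isCoprime_iff_coprime.2 (((Nat.coprime_self_sub_left (by omega)).2 (Nat.coprime_one_left _)).coprime_dvd_right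
      (dvd_pow_self p L.e_pos.ne'))) l (fun a ha hd h12 => ?_) (fun j => ?_) fun a => mul_left_cancel₀ hn'.ne' (hu a)
  · rw [← hω.zpow_eq_one_iff_dvd, ← h11, ← h8, ← D.cor_act v ha] at hd
    have h13 := h6 a ha
    have h14 := h6 _ ha.neg
    rw [Datum.act, map_neg, map_neg, map_neg] at h14
    rcases (h4 _ (ha.act v) hd).lt_or_gt with h15 | h15
    · exact absurd (h14.2 (neg_pos.2 h15)) (by omega)
    · exact absurd (h13.2 h15) (by omega)
  · have := hc (Pi.single j 1)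
    rw [h11, h11, dotProduct_mulVec, dotProduct_single, dotProduct_single, mul_one, mul_one] at this
    rw [← hω.zpow_eq_one_iff_dvd, _root_.zpow_sub, this, mul_inv_cancel]

variable (D)

/-- the `F`-stable classes -/
def clsSetoid : Setoid {c : D.R → ℂˣ // ∃ w, Fx D w c} where
  r c c' := ∃ u, Rel D u c.1 c'.1
  iseqv := ⟨fun c => ⟨1, rel_one D c.1⟩, fun ⟨_, h⟩ => ⟨_, h.symm⟩, fun ⟨_, h⟩ ⟨_, h'⟩ => ⟨_, h.trans h'⟩⟩

theorem det_ne_zero (w : D.W) : (D.Wm w * D.Mx - 1).det ≠ 0 := by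
  obtain ⟨d, e, L⟩ := exists_lvl D
  exact fun h => det_sub_one_ne k L.e_pos (L.pow w) (by rw [h, Int.cast_zero])

theorem card_Fx (w : D.W) : Nat.card {c : D.R → ℂˣ // Fx D w c} = (D.Wm w * D.Mx - 1).det.natAbs := by
  rw [← det_transpose, ← card_ker_mon (k := ℂ) (by rw [det_transpose]; exact Int.cast_ne_zero.2 (det_ne_zero D w))]
  refine Nat.card_congr (Equiv.subtypeEquivRight fun c => ?_)
  rw [MonoidHom.mem_ker, transpose_sub, transpose_one, mon_sub, mon_one, mul_inv_eq_one]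
  exact ⟨fun h => eq_of_chr D fun v => by rw [chr_tr, h], fun h v => by rw [← chr_tr, h]⟩

theorem finite_Fx (w : D.W) : Finite {c : D.R → ℂˣ // Fx D w c} :=
  Nat.finite_of_card_ne_zero (by rw [card_Fx]; exact Int.natAbs_ne_zero.2 (det_ne_zero D w))

theorem card_cls [Fintype D.W] :
    Nat.card (Quotient (clsSetoid D)) * Fintype.card D.W = ∑ w, (D.Wm w * D.Mx - 1).det.natAbs := by
  obtain ⟨d, e, L⟩ := exists_lvl D
  have h1 : ∀ u c, Rel D u c (mon (D.Wm u⁻¹)ᵀ c) := fun u c v => by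
    rw [chr_tr, mulVec_mulVec, ← D.Wm_mul, inv_mul_cancel, D.Wm_one, one_mulVec]
  have h2 : ∀ u c c', mon (D.Wm u⁻¹)ᵀ c = c' ↔ Rel D u c c' := fun u c c' =>
    ⟨fun h => h ▸ h1 u c, fun h => eq_of_chr D fun v => by rw [chr_tr, h.symm]⟩
  let _ : MulAction D.W {c : D.R → ℂˣ // ∃ w, Fx D w c} :=
    { smul := fun u c => ⟨mon (D.Wm u⁻¹)ᵀ c.1, _, c.2.choose_spec.rel (h1 u c.1)⟩
      one_smul := fun c => Subtype.ext ((h2 _ _ _).2 (rel_one D _))
      mul_smul := fun u v c => Subtype.ext ((h2 _ _ _).2 ((h1 v _).trans (h1 u _))) }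
  have h3 : ∀ (u : D.W) (c c' : {c : D.R → ℂˣ // ∃ w, Fx D w c}), u • c = c' ↔ Rel D u c.1 c'.1 := fun u c c' =>
    Subtype.ext_iff.trans (h2 u c.1 c'.1)
  have h4 : clsSetoid D = MulAction.orbitRel D.W _ := Setoid.ext fun c c' =>
    ⟨fun ⟨u, h⟩ => ⟨u⁻¹, (h3 _ _ _).2 h.symm⟩, fun ⟨u, h⟩ => ⟨u⁻¹, ((h3 _ _ _).1 h).symm⟩⟩
  have := finite_Fx D
  rw [h4, ← Nat.card_eq_fintype_card, ← Nat.card_prod,
    ← Nat.card_congr (MulAction.sigmaFixedByEquivOrbitsProdGroup D.W _), ← Finset.sum_congr rfl fun w _ => card_Fx D w,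
    ← Nat.card_sigma]
  refine Nat.card_congr ⟨fun z => ⟨z.1 * z.2.1.2.choose, z.2.1.1, z.2.1.2.choose_spec.mul ((h3 _ _ _).1 z.2.2)⟩,
    fun z => ⟨z.1 * (Exists.choose (⟨z.1, z.2.2⟩ : ∃ w, Fx D w z.2.1))⁻¹, ⟨z.2.1, z.1, z.2.2⟩,
      (h3 _ _ _).2 ((Exists.choose_spec (⟨z.1, z.2.2⟩ : ∃ w, Fx D w z.2.1)).div z.2.2 L)⟩, ?_, ?_⟩
  · rintro ⟨u, ⟨c, hc⟩, h⟩
    exact Sigma.subtype_ext (mul_inv_cancel_right _ _) rfl
  · rintro ⟨w, c, h⟩
    exact Sigma.subtype_ext (inv_mul_cancel_right _ _) rfl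

end Cfsg.Agent.DL.PP
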