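import Cfsg.Agent.DL.CF.Uni

/-!
# Root combinatorics for the semisimple characters (helper89)

* `exists_align` : two linear forms can be aligned by an element of a subgroup of `W`;
* `eq_zero_of_minuscule` : a minuscule element of the root lattice is zero;
* `eq_one_of_generic` : the affine Weyl group acts freely on generic points.
-/

set_option autoImplicit false
set_option linter.unusedSectionVars false

namespace Cfsg.Agent.DL.PP

open CoxeterSystem Cfsg.Agent.ChevalleyStructure.CoxeterGeom Cfsg.Agent.Tits.Roots Cfsg.Agent.Nodes.Reps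
  Cfsg.Agent.Nodes.BNOf Cfsg.Agent.Nodes.Coroot Matrix

variable {p : ℕ} [Fact p.Prime] {k : Type} [Field k] [CharP k p] {Y : Type} [Group Y] {N : Type} [Fintype N]
  [DecidableEq N] {ρ : Y →* GL N k} {F : MulAut Y} {G : Subgroup Y} (D : Datum p ρ F G)

/-- the finite set of roots -/
noncomputable def Phi : Finset (D.I → ℤ) := D.finite_roots.toFinset

theorem mem_Phi {a : D.I → ℤ} : a ∈ Phi D ↔ D.Rt a := D.finite_roots.mem_toFinset

/-- the coroot pairing -/
noncomputable abbrev cp (b a : D.I → ℤ) : ℤ := cpr D.cs D.h b a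

theorem act_inv_act (w : D.W) (a : D.I → ℤ) : D.act w⁻¹ (D.act w a) = a := rep_inv_apply _ _ _ _

theorem act_act_inv (w : D.W) (a : D.I → ℤ) : D.act w (D.act w⁻¹ a) = a := rep_apply_inv _ _ _ _

theorem sum_act {M : Type*} [AddCommMonoid M] (w : D.W) (f : (D.I → ℤ) → M) :
    ∑ c ∈ Phi D, f (D.act w c) = ∑ c ∈ Phi D, f c :=
  Finset.sum_bij' (fun c _ => D.act w c) (fun c _ => D.act w⁻¹ c)
    (fun _ hc => (mem_Phi D).2 (((mem_Phi D).1 hc).act w)) (fun _ hc => (mem_Phi D).2 (((mem_Phi D).1 hc).act w⁻¹))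
    (fun c _ => act_inv_act D w c) (fun c _ => act_act_inv D w c) fun _ _ => rfl

theorem cp_act (w : D.W) (b : D.I → ℤ) {a : D.I → ℤ} (ha : D.Rt a) : cp D (D.act w b) (D.act w a) = cp D b a :=
  cpr_rep _ _ w b ha

theorem cp_sub (b b' : D.I → ℤ) {a : D.I → ℤ} (ha : D.Rt a) : cp D (b - b') a = cp D b a - cp D b' a := by
  rw [cp, sub_eq_add_neg, cpr_add _ _ _ _ ha, cpr_neg _ _ _ ha, sub_eq_add_neg]

theorem cp_rf_left (b : D.I → ℤ) {a : D.I → ℤ} (ha : D.Rt a) : cp D (D.act (D.rf a) b) a = -cp D b a := by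
  rw [D.act_rf ha, cp_sub D _ _ ha, cp, cp, cpr_smul _ _ _ _ ha, cpr_self _ _ ha]
  ring

theorem cp_rf_right {a c : D.I → ℤ} (ha : D.Rt a) (hc : D.Rt c) : cp D a (D.act (D.rf a) c) = -cp D a c := by
  have h1 : D.act (D.rf a) (-a) = a := by rw [Datum.act, map_neg, ← Datum.act, D.act_rf_self ha, neg_neg]
  have h2 := cp_act D (D.rf a) (-a) hc
  rw [h1] at h2
  rw [h2, cp, cpr_neg _ _ _ hc]

theorem sum_sq_pos {a : D.I → ℤ} (ha : D.Rt a) : 0 < ∑ c ∈ Phi D, cp D c a ^ 2 :=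
  Finset.sum_pos' (fun _ _ => sq_nonneg _) ⟨a, (mem_Phi D).2 ha, by rw [cp, cpr_self _ _ ha]; norm_num⟩

theorem sum_sq_pos' {a : D.I → ℤ} (ha : D.Rt a) : 0 < ∑ c ∈ Phi D, cp D a c ^ 2 :=
  Finset.sum_pos' (fun _ _ => sq_nonneg _) ⟨a, (mem_Phi D).2 ha, by rw [cp, cpr_self _ _ ha]; norm_num⟩

theorem two_sum (l : (D.I → ℤ) →+ ℝ) {a : D.I → ℤ} (ha : D.Rt a) :
    2 * ∑ c ∈ Phi D, (cp D c a : ℝ) * l c = ((∑ c ∈ Phi D, cp D c a ^ 2 : ℤ) : ℝ) * l a := by
  have h1 := sum_act D (D.rf a) fun c => (cp D c a : ℝ) * l c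
  have h2 : ∀ c, (cp D (D.act (D.rf a) c) a : ℝ) * l (D.act (D.rf a) c) =
      (cp D c a : ℝ) ^ 2 * l a - (cp D c a : ℝ) * l c := fun c => by
    rw [cp_rf_left D c ha, D.act_rf ha, map_sub, map_zsmul, zsmul_eq_mul]
    push_cast
    ring
  rw [Finset.sum_congr rfl fun c _ => h2 c, Finset.sum_sub_distrib, ← Finset.sum_mul] at h1
  push_cast
  linarith

/-- two linear forms can be aligned -/
theorem exists_align (H : Subgroup D.W) (l l' : (D.I → ℤ) →+ ℝ) :
    ∃ u ∈ H, ∀ a, D.Rt a → D.rf a ∈ H → 0 ≤ l (D.act u a) * l' a := by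
  obtain ⟨u, hu⟩ := Finite.exists_max fun u : H => ∑ c ∈ Phi D, l (D.act u c) * l' c
  refine ⟨u, u.2, fun a ha hH => ?_⟩
  have h1 := hu (u * ⟨_, hH⟩)
  have h2 : ∀ c, l (D.act ((u * ⟨_, hH⟩ : H) : D.W) c) * l' c =
      l (D.act u c) * l' c - l (D.act u a) * ((cp D c a : ℝ) * l' c) := fun c => by
    rw [Subgroup.coe_mul, CF.act_mul, D.act_rf ha, Datum.act, map_sub, map_zsmul, map_sub, map_zsmul, zsmul_eq_mul]
    ring
  simp only [h2, Finset.sum_sub_distrib, ← Finset.mul_sum] at h1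
  have h3 := two_sum D l' ha
  have h4 : (0 : ℝ) < ((∑ c ∈ Phi D, cp D c a ^ 2 : ℤ) : ℝ) := by exact_mod_cast sum_sq_pos D ha
  have h5 : 0 ≤ ((∑ c ∈ Phi D, cp D c a ^ 2 : ℤ) : ℝ) * (l (D.act u a) * l' a) := by
    rw [mul_left_comm, ← h3]
    linarith
  exact nonneg_of_mul_nonneg_right h5 h4 |>.trans_eq rfl

/-- a minuscule element of the root lattice vanishes -/
theorem eq_zero_of_minuscule (β : D.I → ℤ) (h : ∀ a, D.Rt a → |cp D β a| ≤ 1) : β = 0 := by
  have := Fintype.ofFinite D.W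
  induction hn : ∑ i, (β i).natAbs using Nat.strong_induction_on generalizing β with
  | _ n ih =>
  by_contra h0
  have h1 := form_pos D.cs D.h h0
  have h2 : form D.cs D.h β β = ∑ i, β i * form D.cs D.h β (sr i) := by
    conv_lhs => rw [D.eq_sum_sr β]
    rw [← D.eq_sum_sr β]
    exact D.map_eq_sum ⟨⟨form D.cs D.h β, form_zero_right _ _ _⟩, form_add_right _ _ _⟩ β
  obtain ⟨i, -, hi⟩ := Finset.exists_lt_of_sum_lt (s := Finset.univ) (f := fun _ => (0 : ℤ))
    (g := fun i => β i * form D.cs D.h β (sr i)) (by rw [← h2]; simpa using h1)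
  have hr := isRoot_sr D.cs D.h i
  have h3 := two_form_cpr D.cs D.h β hr
  have h4 := form_pos D.cs D.h hr.ne_zero
  have h5 : 0 < β i * cp D β (sr i) := by
    by_contra h6
    have h8 := mul_nonpos_of_nonpos_of_nonneg (not_lt.1 h6) h4.le
    have h9 := congrArg (β i * ·) h3
    simp only [cp] at h8
    nlinarith
  have h6 := h _ hr
  have h7 : D.act (D.rf (sr i)) β = 0 := by
    refine ih _ ?_ _ (fun a ha => ?_) rfl
    · rw [← hn, D.act_rf hr]
      refine Finset.sum_lt_sum (fun j _ => ?_) ⟨i, Finset.mem_univ _, ?_⟩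
      · by_cases hj : j = i
        · subst hj
          simp only [Pi.sub_apply, Pi.smul_apply, sr, Pi.single_eq_same, smul_eq_mul, mul_one]
          rw [abs_le] at h6
          rcases lt_trichotomy (cp D β (sr j)) 0 with h8 | h8 | h8
          · have : β j < 0 := by nlinarith
            have : cpr D.cs D.h β (Pi.single j 1) = -1 := by change cp D β (sr j) = -1; omega
            omega
          · rw [h8] at h5; omega
          · have : 0 < β j := by nlinarith
            have : cpr D.cs D.h β (Pi.single j 1) = 1 := by change cp D β (sr j) = 1; omega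
            omega
        · simp [sr, Pi.single_eq_of_ne hj]
      · simp only [Pi.sub_apply, Pi.smul_apply, sr, Pi.single_eq_same, smul_eq_mul, mul_one]
        rw [abs_le] at h6
        rcases lt_trichotomy (cp D β (sr i)) 0 with h8 | h8 | h8
        · have : β i < 0 := by nlinarith
          have : cpr D.cs D.h β (Pi.single i 1) = -1 := by change cp D β (sr i) = -1; omega
          omega
        · rw [h8] at h5; omega
        · have : 0 < β i := by nlinarith
          have : cpr D.cs D.h β (Pi.single i 1) = 1 := by change cp D β (sr i) = 1; omega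
          omega
    · have := cp_act D (D.rf (sr i)) β (ha.act (D.rf (sr i))⁻¹)
      rw [act_act_inv] at this
      rw [this]
      exact h _ (ha.act _)
  exact h0 (by rw [← act_inv_act D (D.rf (sr i)) β, h7, Datum.act, map_zero])

variable [IsAlgClosed k]

theorem wt_dot_cor (b : D.I → ℤ) {a : D.I → ℤ} (ha : D.Rt a) : D.wt b ⬝ᵥ D.cor a = cp D b a := D.pair_cor ha b

theorem dot_cor_act (η : D.R → ℤ) (w : D.W) {a : D.I → ℤ} (ha : D.Rt a) :
    η ⬝ᵥ D.cor (D.act w a) = vecMul η (D.Wm w) ⬝ᵥ D.cor a := by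
  rw [D.cor_act w ha, dotProduct_mulVec]

theorem vecMul_rf (η : D.R → ℤ) {a : D.I → ℤ} (ha : D.Rt a) :
    vecMul η (D.Wm (D.rf a)) = η - (η ⬝ᵥ D.cor a) • D.wt a := by
  rw [D.Wm_rf ha, vecMul_sub, vecMul_one, vecMul_vecMulVec]

theorem two_sum' (η : D.R → ℤ) {a : D.I → ℤ} (ha : D.Rt a) :
    2 * ∑ c ∈ Phi D, (η ⬝ᵥ D.cor c) * cp D a c = (∑ c ∈ Phi D, cp D a c ^ 2) * (η ⬝ᵥ D.cor a) := by
  have h1 := sum_act D (D.rf a) fun c => (η ⬝ᵥ D.cor c) * cp D a c
  have h2 : ∀ c ∈ Phi D, (η ⬝ᵥ D.cor (D.act (D.rf a) c)) * cp D a (D.act (D.rf a) c) =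
      cp D a c ^ 2 * (η ⬝ᵥ D.cor a) - (η ⬝ᵥ D.cor c) * cp D a c := fun c hc => by
    have hc' := (mem_Phi D).1 hc
    rw [cp_rf_right D ha hc', dot_cor_act D η _ hc', vecMul_rf D η ha, sub_dotProduct, smul_dotProduct,
      wt_dot_cor D a hc', smul_eq_mul]
    ring
  rw [Finset.sum_congr rfl h2, Finset.sum_sub_distrib, ← Finset.sum_mul] at h1
  linarith

theorem eq_one_of_regular {η : D.R → ℤ} (h : ∀ a, D.Rt a → η ⬝ᵥ D.cor a ≠ 0) {u : D.W}
    (hu : vecMul η (D.Wm u) = η) : u = 1 := by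
  let l : (D.I → ℤ) →+ ℤ :=
    { toFun := fun b => ∑ c ∈ Phi D, (η ⬝ᵥ D.cor c) * cp D b c
      map_zero' := Finset.sum_eq_zero fun c hc => by
        rw [cp, ← ell_apply _ _ ((mem_Phi D).1 hc), map_zero, mul_zero]
      map_add' := fun b b' => by
        rw [← Finset.sum_add_distrib]
        exact Finset.sum_congr rfl fun c hc => by rw [cp, cpr_add _ _ _ _ ((mem_Phi D).1 hc), mul_add] }
  refine Subgroup.mem_bot.1 (CF.mem_of_fix D l (fun a ha h0 => ?_) fun a => ?_)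
  · have h1 := two_sum' D η ha
    have h2 : ∑ c ∈ Phi D, (η ⬝ᵥ D.cor c) * cp D a c = 0 := h0
    rw [h2, mul_zero] at h1
    exact absurd h1.symm (mul_ne_zero (sum_sq_pos' D ha).ne' (h a ha))
  · show ∑ c ∈ Phi D, (η ⬝ᵥ D.cor c) * cp D (D.act u a) c = ∑ c ∈ Phi D, (η ⬝ᵥ D.cor c) * cp D a c
    rw [← sum_act D u]
    exact Finset.sum_congr rfl fun c hc => by
      rw [cp_act D u a ((mem_Phi D).1 hc), dot_cor_act D η u ((mem_Phi D).1 hc), hu]

/-- the affine Weyl group acts freely on the generic points -/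
theorem eq_one_of_generic {η : D.R → ℤ} {n : ℤ} (hn : 0 < n) (h : ∀ a, D.Rt a → ¬ n ∣ η ⬝ᵥ D.cor a) {u : D.W}
    {β : D.I → ℤ} (hu : vecMul η (D.Wm u) = η + n • D.wt β) : u = 1 := by
  let E : (D.R → ℤ) → ℤ := fun η => ∑ c ∈ Phi D, (η ⬝ᵥ D.cor c) ^ 2
  have hE : ∀ η, 0 ≤ E η := fun η => Finset.sum_nonneg fun _ _ => sq_nonneg _
  obtain ⟨μ, hμ⟩ : ∃ μ : D.I → ℤ, ∀ μ', E (η - n • D.wt μ) ≤ E (η - n • D.wt μ') := by
    refine ⟨Function.argmin (fun μ : D.I → ℤ => (E (η - n • D.wt μ)).toNat), fun μ' => ?_⟩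
    have h1 := Function.argmin_le (fun μ : D.I → ℤ => (E (η - n • D.wt μ)).toNat) μ'
    have h2 := hE (η - n • D.wt μ')
    have h3 := hE (η - n • D.wt (Function.argmin (fun μ : D.I → ℤ => (E (η - n • D.wt μ)).toNat)))
    omega
  set η₁ := η - n • D.wt μ with hη₁
  have g1 : ∀ a, D.Rt a → ¬ n ∣ η₁ ⬝ᵥ D.cor a := fun a ha hd => h a ha (by
    rw [hη₁, sub_dotProduct, smul_dotProduct, smul_eq_mul] at hd
    exact (dvd_sub_left (Dvd.intro _ rfl)).1 hd)
  have g2 : ∀ a, D.Rt a → η₁ ⬝ᵥ D.cor a < n := fun a ha => by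
    have h1 := hμ (μ + a)
    have h2 : E (η - n • D.wt (μ + a)) = E η₁ - n * (2 * ∑ c ∈ Phi D, (η₁ ⬝ᵥ D.cor c) * cp D a c) +
        n ^ 2 * ∑ c ∈ Phi D, cp D a c ^ 2 := by
      simp only [E, Finset.mul_sum, ← Finset.sum_sub_distrib, ← Finset.sum_add_distrib]
      refine Finset.sum_congr rfl fun c hc => ?_
      rw [map_add, smul_add, ← sub_sub, ← hη₁, sub_dotProduct, smul_dotProduct, wt_dot_cor D a ((mem_Phi D).1 hc),
        smul_eq_mul]
      ring
    rw [h2, two_sum' D η₁ ha] at h1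
    have h3 := sum_sq_pos' D ha
    have h4 : η₁ ⬝ᵥ D.cor a ≤ n := by
      by_contra h5
      have := mul_pos (mul_pos hn h3) (sub_pos.2 (not_le.1 h5))
      nlinarith
    exact lt_of_le_of_ne h4 fun e => g1 a ha (e ▸ dvd_rfl)
  have g3 : ∀ a, D.Rt a → -n < η₁ ⬝ᵥ D.cor a := fun a ha => by
    have := g2 _ ha.neg
    rw [D.cor_neg ha, dotProduct_neg] at this
    omega
  have g4 : vecMul η₁ (D.Wm u) = η₁ + n • D.wt (β + μ - D.act u⁻¹ μ) := by
    rw [hη₁, sub_vecMul, hu, smul_vecMul, ← D.wt_act', map_sub, map_add, smul_sub, smul_add]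
    abel
  have g5 : β + μ - D.act u⁻¹ μ = 0 := by
    refine eq_zero_of_minuscule D _ fun a ha => ?_
    have h1 := dot_cor_act D η₁ u ha
    rw [g4, add_dotProduct, smul_dotProduct, wt_dot_cor D _ ha, smul_eq_mul] at h1
    have h2 := g2 _ ha
    have h3 := g3 _ ha
    have h4 := g2 _ (ha.act u)
    have h5 := g3 _ (ha.act u)
    rw [abs_le]
    constructor <;> by_contra h6 <;> push Not at h6 <;> nlinarith
  rw [g5, map_zero, smul_zero, add_zero] at g4
  exact eq_one_of_regular D (fun a ha e => g1 a ha (e ▸ dvd_zero _)) g4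

theorem exists_wt (η : D.R → ℤ) (u : D.W) : ∃ β, vecMul η (D.Wm u) = η + D.wt β := by
  induction u using D.cs.simple_induction_right with
  | one => exact ⟨0, by rw [D.Wm_one, vecMul_one, map_zero, add_zero]⟩
  | mul_simple_right w i ih =>
    obtain ⟨β, hβ⟩ := ih
    refine ⟨β - ((η + D.wt β) ⬝ᵥ D.cor (sr i)) • sr i, ?_⟩
    rw [D.Wm_mul, ← vecMul_vecMul, hβ, ← D.rf_sr, vecMul_rf D _ (isRoot_sr _ _ i), map_sub, map_zsmul]
    abel

/-- connected centre: there are fundamental coweights (up to a power of `p`) -/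
def CZ : Prop := ∃ (m : ℕ) (ϖ : D.I → D.R → ℤ), ∀ b i, D.wt b ⬝ᵥ ϖ i = p ^ m * b i

/-- Steinberg: an element fixing `x` modulo `n` and a linear form regular on the roots of `x` is trivial -/
theorem eq_one_of_fix (hZ : CZ D) {x : D.R → ℤ} {n : ℤ} (hn : 0 < n) (hnp : IsCoprime n p) (l : (D.I → ℤ) →+ ℤ)
    (hl : ∀ a, D.Rt a → n ∣ x ⬝ᵥ D.cor a → l a ≠ 0) {u : D.W} (hu : ∀ j, n ∣ vecMul x (D.Wm u) j - x j)
    (hul : ∀ a, l (D.act u a) = l a) : u = 1 := by
  obtain ⟨m, ϖ, hϖ⟩ := hZ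
  obtain ⟨β, hβ⟩ := exists_wt D x u
  have h1 : ∀ i, n ∣ β i := fun i => by
    refine (hnp.pow_right (n := m)).dvd_of_dvd_mul_left ?_
    rw [← hϖ β i]
    refine Finset.dvd_sum fun j _ => Dvd.dvd.mul_right ?_ _
    have := hu j
    rwa [hβ, Pi.add_apply, add_sub_cancel_left] at this
  choose β' hβ' using h1
  let z : D.I → ℤ := ∑ c ∈ Phi D, l c • c
  have hz : ∀ a, D.Rt a → 2 * cp D z a = (∑ c ∈ Phi D, cp D c a ^ 2) * l a := fun a ha => by
    have h2 := two_sum D ((Int.castAddHom ℝ).comp l) ha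
    have h3 : cp D z a = ∑ c ∈ Phi D, cp D c a * l c := by
      rw [cp, ← ell_apply _ _ ha, map_sum]
      exact Finset.sum_congr rfl fun c _ => by rw [map_zsmul, smul_eq_mul, mul_comm]; rfl
    rw [h3]
    simp only [AddMonoidHom.comp_apply, Int.coe_castAddHom] at h2
    exact_mod_cast h2
  have hzu : D.act u⁻¹ z = z := by
    rw [Datum.act, map_sum, ← sum_act D u]
    exact Finset.sum_congr rfl fun c _ => by rw [map_zsmul, hul]; exact congrArg _ (act_inv_act D u c)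
  let K : ℤ := 1 + ∑ c ∈ Phi D, |cp D z c|
  have hK : ∀ a, D.Rt a → |cp D z a| < K := fun a ha => by
    have := Finset.single_le_sum (f := fun c => |cp D z c|) (fun _ _ => abs_nonneg _) ((mem_Phi D).2 ha)
    omega
  have hK0 : 0 < K := by
    have : 0 ≤ ∑ c ∈ Phi D, |cp D z c| := Finset.sum_nonneg fun _ _ => abs_nonneg _
    omega
  refine eq_one_of_generic D (η := K • x + D.wt z) (mul_pos hK0 hn) (fun a ha hd => ?_) (β := β') ?_
  · rw [add_dotProduct, smul_dotProduct, wt_dot_cor D z ha, smul_eq_mul] at hd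
    have h2 : K ∣ cp D z a := (dvd_add_right (Dvd.intro _ rfl)).1 ((Dvd.intro _ rfl).trans hd)
    have h3 : cp D z a = 0 := Int.eq_zero_of_abs_lt_dvd h2 (hK a ha)
    rw [h3, add_zero] at hd
    have h4 := hz a ha
    rw [h3, mul_zero] at h4
    exact mul_ne_zero (sum_sq_pos D ha).ne' (hl a ha ((mul_dvd_mul_iff_left hK0.ne').1 hd)) h4.symm
  · have h2 : β = n • β' := funext hβ'
    rw [add_vecMul, smul_vecMul, hβ, ← D.wt_act', hzu, h2, map_zsmul, smul_add, smul_smul]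
    abel

end Cfsg.Agent.DL.PP
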