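import Cfsg.Agent.DL.PP.HC
import Cfsg.Agent.DL.PP.Root
import Cfsg.Agent.DL.St.Main
import Cfsg.Agent.DL.Uni.Gp

/-!
# Deligne-Lusztig characters induced from a rational Levi subgroup (helper89)

`exists_char` : if `θ` is in general position in a Levi complement of a rational parabolic subgroup, then `± R_T θ` is a
character.
-/

set_option autoImplicit false
set_option linter.unusedSectionVars false

namespace Cfsg.Agent.DL.PP

open CoxeterSystem Cfsg.Agent.ChevalleyStructure.CoxeterGeom Cfsg.Agent.Tits.Roots Cfsg.Agent.Nodes.Reps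
  Cfsg.Agent.Nodes.BNOf Cfsg.Agent.Nodes Cfsg.Agent.DL.Uni Cfsg.Agent.DL.Asm Matrix
open scoped commutatorElement

variable {p : ℕ} [Fact p.Prime] {k : Type} [Field k] [CharP k p] {Y : Type} [Group Y] {N : Type} [Fintype N]
  [DecidableEq N] {ρ : Y →* GL N k} {F : MulAut Y} {G : Subgroup Y} (D : Datum p ρ F G)

/-- root groups normalise the group generated by an ideal of roots -/
theorem conj_mem_S_of_X {A : Set (D.I → ℤ)} (hA : ∀ b ∈ A, D.Rt b) {a : D.I → ℤ} (ha : D.Rt a) (h1 : -a ∉ A)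
    (h : ∀ b ∈ A, ∀ c, Btwn D.cs D.h a b c → c ∈ A) {ξ : Y} (hξ : ξ ∈ D.X a) {v : Y} (hv : v ∈ D.S A) :
    ξ * v * ξ⁻¹ ∈ D.S A := by
  by_cases h0 : a ∈ A
  · exact mul_mem (mul_mem (RGD.le_Sup h0 hξ) hv) (inv_mem (RGD.le_Sup h0 hξ))
  have : D.S A ≤ (D.S A).comap (MulAut.conj ξ).toMonoidHom := RGD.Sup_le fun b hb η hη => by
    have h4 := D.comm ha (hA b hb) (fun e => h0 (e ▸ hb)) (fun e => h1 (by rw [e, neg_neg]; exact hb)) hξ hη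
    have h5 := mul_mem (RGD.Sup_mono (S' := A) (h b hb) h4) (RGD.le_Sup hb hη)
    rwa [commutatorElement_def, inv_mul_cancel_right] at h5
  exact this hv

theorem X_le_normalizer {A : Set (D.I → ℤ)} (hA : ∀ b ∈ A, D.Rt b) {a : D.I → ℤ} (ha : D.Rt a) (h1 : -a ∉ A)
    (h : ∀ b ∈ A, ∀ c, Btwn D.cs D.h a b c → c ∈ A) : D.X a ≤ Subgroup.normalizer (D.S A : Set Y) := fun ξ hξ =>
  Subgroup.mem_normalizer_iff.2 fun v => ⟨conj_mem_S_of_X D hA ha h1 h hξ, fun hv => by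
    simpa [mul_assoc] using conj_mem_S_of_X D hA ha h1 h (inv_mem hξ) hv⟩

/-- the roots of the unipotent radical -/
def Rad (l : (D.I → ℤ) →+ ℤ) : Set (D.I → ℤ) := {a | D.Rt a ∧ 0 < l a}

theorem uni_Rad (l : (D.I → ℤ) →+ ℤ) : D.Uni (Rad D l) :=
  ⟨⟨fun _ h => h.1, fun a ha b hb c hc => ⟨hc.1, by
    obtain ⟨m, x, y, hm, hx, hy, e⟩ := Slope.btwn_map hc l
    have := mul_pos hx ha.2
    have := mul_pos hy hb.2
    exact pos_of_mul_pos_left (by linarith) hm.le⟩⟩, l, fun _ h => h.2⟩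

variable [IsAlgClosed k] {D} {l : (D.I → ℤ) →+ ℤ} {lam : D.R → ℤ} (hl : ∀ b, D.wt b ⬝ᵥ lam = l b)

variable (D lam) in
/-- the central torus of the Levi subgroup -/
def Zl : Set Y := Set.range fun u : kˣ => D.τ (coch lam u)

omit [IsAlgClosed k] in
theorem Zl_sub : Zl D lam ⊆ D.T := by
  rintro _ ⟨u, rfl⟩
  exact D.τ_mem _

include hl

omit [IsAlgClosed k] in
theorem χ_Zl (a : D.I → ℤ) (u : kˣ) : D.χ a (D.τ (coch lam u)) = ((u ^ l a : kˣ) : k) := by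
  rw [D.χ_τ, chr_coch, ← hl]
  rfl

theorem mem_Sz_Zl {a : D.I → ℤ} : a ∈ D.Sz (Zl D lam) ↔ D.Rt a ∧ l a = 0 := by
  refine and_congr_right fun _ => ⟨fun h => eq_zero_of_zpow (k := k) fun u => Units.ext ?_, ?_⟩
  · rw [← χ_Zl hl, h _ ⟨u, rfl⟩, Units.val_one]
  · rintro h _ ⟨u, rfl⟩
    rw [χ_Zl hl, h, zpow_zero, Units.val_one]

theorem l_act {w : D.W} {m : Y} (hm : D.Rp w m) (h : m ∈ D.cen (Zl D lam)) (a : D.I → ℤ) : l (D.act w a) = l a := by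
  refine sub_eq_zero.1 (eq_zero_of_zpow (k := k) fun u => ?_)
  have := D.χ_act_of_comm Zl_sub hm (D.cen_le_centralizer Zl_sub h) a ⟨u, rfl⟩
  rw [χ_Zl hl, χ_Zl hl] at this
  rw [_root_.zpow_sub, Units.ext this, mul_inv_cancel]

theorem cen_norm {x : Y} (hx : x ∈ D.cen (Zl D lam)) {v : Y} (hv : v ∈ D.S (Rad D l)) : x * v * x⁻¹ ∈ D.S (Rad D l) := by
  have : D.cen (Zl D lam) ≤ Subgroup.normalizer (D.S (Rad D l) : Set Y) :=
    sup_le (D.T_le_normalizer fun _ h => h.1) (RGD.Sup_le fun a ha => by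
      obtain ⟨h1, h2⟩ := (mem_Sz_Zl hl).1 ha
      refine X_le_normalizer D (fun _ h => h.1) h1 (fun h => ?_) fun b hb c hc => ⟨hc.1, ?_⟩
      · have := h.2
        rw [map_neg, h2] at this
        omega
      · obtain ⟨m, x, y, hm, hx, hy, e⟩ := Slope.btwn_map hc l
        have := mul_pos hy hb.2
        rw [h2] at e
        exact pos_of_mul_pos_left (by linarith) hm.le)
  exact (Subgroup.mem_normalizer_iff.1 (this hx) v).1 hv

theorem cen_disj {x : Y} (hx : x ∈ D.cen (Zl D lam)) (hv : x ∈ D.S (Rad D l)) : x = 1 := by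
  have h1 : x ∈ D.S (Rad D l) ⊓ D.cen (Zl D lam) := ⟨hv, hx⟩
  rw [(uni_Rad D l).inf_cen Zl_sub] at h1
  exact Subgroup.mem_bot.1 ((RGD.Sup_le fun a ha => absurd ((mem_Sz_Zl hl).1 ha.2).2 ha.1.2.ne' :
    D.S _ ≤ ⊥) h1)

theorem lv (hs : ∀ a, D.Rt a → (0 < l (D.g a) ↔ 0 < l a)) : Lv F (D.cen (Zl D lam)) (D.S (Rad D l)) ∧
    ∀ a ∈ D.Sz (Zl D lam), D.g a ∈ D.Sz (Zl D lam) := by
  have h1 : ∀ a ∈ D.Sz (Zl D lam), D.g a ∈ D.Sz (Zl D lam) := fun a ha => by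
    obtain ⟨h1, h2⟩ := (mem_Sz_Zl hl).1 ha
    refine (mem_Sz_Zl hl).2 ⟨D.g_root a h1, ?_⟩
    have h3 := hs a h1
    have h4 := hs _ h1.neg
    rw [D.g_neg h1, map_neg, map_neg] at h4
    omega
  have h2 : ∀ a ∈ Rad D l, D.g a ∈ Rad D l := fun a ha => ⟨D.g_root a ha.1, (hs a ha.1).2 ha.2⟩
  refine ⟨⟨fun x hx => ?_, fun v hv => D.F_mem_S (fun _ h => h.1) h2 hv, fun x hx => D.lang_TS D.Sz_root h1 hx,
    fun v hv => D.lang_S (fun _ h => h.1) h2 hv⟩, h1⟩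
  obtain ⟨s, hs, t, ht, rfl⟩ := (D.mem_TS D.Sz_root).1 hx
  rw [map_mul]
  exact mul_mem (D.S_le_cen _ (D.F_mem_S D.Sz_root h1 hs)) (D.T_le_cen _ (D.F_mem_T ht))

variable (h0 : ∀ i, 0 ≤ l (sr i))
include h0

omit [IsAlgClosed k] hl in
theorem l_nonneg {a : D.I → ℤ} (ha : 0 ≤ a) : 0 ≤ l a := by
  rw [D.map_eq_sum l a]
  exact Finset.sum_nonneg fun i _ => mul_nonneg (ha i) (h0 i)

omit [IsAlgClosed k] hl in
theorem nonneg_of_l {a : D.I → ℤ} (ha : D.Rt a) (h : 0 < l a) : 0 ≤ a :=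
  ha.pos_or_neg.resolve_right fun h1 => by
    have := l_nonneg h0 (neg_nonneg.2 h1)
    rw [map_neg] at this
    omega

theorem mem_U_iff (z : Y) : z ∈ D.U ↔ ∃ v ∈ D.S (Rad D l), ∃ u ∈ D.U ⊓ D.cen (Zl D lam), z = v * u := by
  constructor
  · intro hz
    obtain ⟨a, ha, c, hc, rfl⟩ := D.split D.cl_pos _ l D.ht_pos_of_pos hz
    exact ⟨a, RGD.Sup_mono (S' := Rad D l) (fun x hx => ⟨hx.1.1, hx.2⟩) ha, c, ⟨RGD.Sup_mono (fun x hx => hx.1) hc,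
      D.S_le_cen _ (RGD.Sup_mono (fun x hx => (mem_Sz_Zl hl).2 ⟨hx.1.1, le_antisymm hx.2 (l_nonneg h0 hx.1.2)⟩) hc)⟩,
      rfl⟩
  · rintro ⟨v, hv, u, hu, rfl⟩
    exact mul_mem (RGD.Sup_mono (S' := RGD.Pos D.cs D.h) (fun x hx => ⟨hx.1, nonneg_of_l h0 hx.1 hx.2⟩) hv) hu.1

variable (hs : ∀ a, D.Rt a → (0 < l (D.g a) ↔ 0 < l a))
include hs

theorem RV_levi [Fintype (GF F G)] [Fintype (GF F (D.cen (Zl D lam)))] (f : Y → ℂ) {g : Y} (hg : F g = g) :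
    RV F G D.T D.U f g = hc (GF F G) (GF F (D.cen (Zl D lam))) (D.S (Rad D l))
      (RV F (D.cen (Zl D lam)) D.T (D.U ⊓ D.cen (Zl D lam)) f) g := by
  have := finite_inf_GF (D.sub Zl_sub (lv hl hs).2 rfl) D.T
  have := Fintype.ofFinite ↥(D.T ⊓ GF F (D.cen (Zl D lam)))
  obtain ⟨d, hd, ⟨e, H⟩, h1⟩ := ((CF.ev_split D).and
    (D.pair_sub Zl_sub (lv hl hs).2 rfl D.pair_self Zl_sub).exists_isInd).ex
  have h2 : ∀ m a, D.Rt a → (0 < l (D.g^[m] a) ↔ 0 < l a) := fun m a ha => by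
    induction m with
    | zero => rfl
    | succ m ih => rw [Function.iterate_succ_apply', hs _ (D.iterate_g_root m ha), ih]
  refine RV_hc (CF.fin_fix D.amb) (lv hl hs).1 (D.cen_le_G _) (D.S_le_G fun _ h => h.1) (fun _ => cen_norm hl)
    (fun _ => cen_disj hl) (mem_U_iff hl h0) (D.T_le_cen _) hd (x := ((p : ℂ) ^ e) ^ (Rad D l).ncard)
    (pow_ne_zero _ (pow_ne_zero _ (Nat.cast_ne_zero.2 (Fact.out : p.Prime).ne_zero)))
    (fun m hm => ⟨(lv (D := D.pow (mul_pos hd hm)) hl (h2 _)).1, ?_⟩) (fun x hx t ht => (h1.expI hx ht).1) f hg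
  rw [card_S_fix (H.mul hm) (uni_Rad D l)]
  push_cast
  ring

theorem exists_char {θ : Y → ℂ} (hθ : IsLin (D.T ⊓ GF F G) θ) (hg : ∀ w m, D.Rp w m → F m = m →
    (∀ a, l (D.act w a) = l a) → (∀ t ∈ D.T ⊓ GF F G, θ (m * t * m⁻¹) = θ t) → w = 1) :
    ∃ ε : ℂ, (ε = 1 ∨ ε = -1) ∧ IsCharacter (GF F G) (res (GF F G) (ε • RV F G D.T D.U θ)) := by
  let DL := D.sub Zl_sub (lv hl hs).2 rfl
  have := finite_GF D
  have := finite_GF DL
  have := Fintype.ofFinite (GF F G)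
  have := Fintype.ofFinite (GF F (D.cen (Zl D lam)))
  have hP : Pair DL D.T (D.U ⊓ D.cen (Zl D lam)) := D.pair_sub Zl_sub (lv hl hs).2 rfl D.pair_self Zl_sub
  have e : D.T ⊓ GF F (D.cen (Zl D lam)) = D.T ⊓ GF F G :=
    Subgroup.ext fun t => ⟨fun h => ⟨h.1, D.T_le_G h.1, h.2.2⟩, fun h => ⟨h.1, D.T_le_cen _ h.1, h.2.2⟩⟩
  obtain ⟨St, hSt⟩ := St.stD DL
  have h1 := hSt.irr_of_genPos (sys' DL) hP.mem_tori (θ := θ) (e ▸ hθ) fun h hh hc => by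
    have h2 : h ∈ D.NN := D.mem_NN_of_conj (D.cen_le_G _ hh.1) fun t ht => by
      rw [← hc.1]
      exact conj_mem_cj.2 (hc.1.symm ▸ ht)
    exact (D.pr_eq_one_iff h2).1 (hg _ h (D.rp_pr h2) hh.2 (l_act hl (D.rp_pr h2) hh.1) (e ▸ hc.2))
  refine ⟨_, hSt.eps_sign (sys' DL) hP.mem_tori, ?_⟩
  obtain ⟨n, r, -, hr⟩ := h1
  convert isCharacter_hc (H := GF F G) (L := GF F (D.cen (Zl D lam))) (fun _ hx _ => cen_norm hl hx.1)
    (fun _ hx => cen_disj hl hx.1)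
    (fun x hx => ⟨D.cen_le_G _ hx.1, hx.2⟩) ⟨n, r, hr⟩ using 1
  funext g
  rw [res, res, hc_smul, Pi.smul_apply, Pi.smul_apply, RV_levi hl h0 hs θ g.2.2, hc_congr (R_eq' hP θ)]

end Cfsg.Agent.DL.PP
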