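import Cfsg.Agent.DL.PP.Comb
import Cfsg.Agent.DL.PP.Levi

/-!
# Geometric conjugacy (helper89)

`Geo F G d T θ T' θ'` is geometric conjugacy of pairs, `Lab` attaches to a pair a character of the cocharacter lattice,
`exists_tru` : every class contains a pair for which `± R_T θ` is a character.
-/

set_option autoImplicit false
set_option linter.unusedSectionVars false

namespace Cfsg.Agent.DL.PP

open CoxeterSystem Cfsg.Agent.ChevalleyStructure.CoxeterGeom Cfsg.Agent.Tits.Roots Cfsg.Agent.Nodes.Reps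
  Cfsg.Agent.Nodes.BNOf Cfsg.Agent.DL.Uni Cfsg.Agent.DL.Asm Cfsg.Agent.DL.Mk Matrix

/-- geometric conjugacy of pairs (`F ^ d` splits all rational tori) -/
def Geo {Y : Type} [Group Y] (F : MulAut Y) (G : Subgroup Y) (d : ℕ) (T : Subgroup Y) (θ : Y → ℂ) (T' : Subgroup Y)
    (θ' : Y → ℂ) : Prop :=
  ∃ g ∈ G, cj g T = T' ∧ ∀ t ∈ T, (F ^ d) t = t → θ' (nrm F d (g * t * g⁻¹)) = θ (nrm F d t)

theorem nrm_map {Y : Type} [Group Y] {F α : MulAut Y} (h : ∀ y, α (F y) = F (α y)) (d : ℕ) (t : Y) :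
    nrm F d (α t) = α (nrm F d t) := by
  have h1 : ∀ m, (F ^ m) (α t) = α ((F ^ m) t) := fun m => by
    induction m with
    | zero => rfl
    | succ m ih => rw [pow_succ_apply, pow_succ_apply, ih, h]
  induction d with
  | zero => rw [nrm_zero, nrm_zero, map_one]
  | succ d ih => rw [nrm_succ, nrm_succ, ih, map_mul, h1]

theorem exists_chr {R : Type} [Fintype R] (f : (R → ℤ) → ℂ) (h0 : f 0 = 1) (h : ∀ a b, f (a + b) = f a * f b) :
    ∃ c : R → ℂˣ, ∀ v, f v = chr v c := by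
  classical
  have h1 : ∀ a, f a ≠ 0 := fun a => left_ne_zero_of_mul_eq_one (by rw [← h, add_neg_cancel, h0])
  let φ : (R → ℤ) →+ Additive ℂˣ := AddMonoidHom.mk' (fun a => Additive.ofMul (Units.mk0 _ (h1 a))) fun a b =>
    congrArg Additive.ofMul (Units.ext (h a b))
  refine ⟨fun j => (φ (Pi.single j 1)).toMul, fun v => ?_⟩
  show ((φ v).toMul : ℂˣ) = (_ : ℂ)
  congr 1
  conv_lhs => rw [pi_eq_sum_univ' v, map_sum, toMul_sum]
  exact Finset.prod_congr rfl fun j _ => by rw [map_zsmul, toMul_zsmul]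

variable {p : ℕ} [Fact p.Prime] {k : Type} [Field k] [CharP k p] {Y : Type} [Group Y] {N : Type} [Fintype N]
  [DecidableEq N] {ρ : Y →* GL N k} {F : MulAut Y} {G : Subgroup Y} [IsAlgClosed k] (D : Datum p ρ F G)

/-- `± R_T θ` is a character -/
def Tru (T : Subgroup Y) (θ : Y → ℂ) : Prop :=
  ∃ ε : ℂ, (ε = 1 ∨ ε = -1) ∧ IsCharacter (GF F G) (res (GF F G) (ε • R D T θ))

/-- the label of a pair -/
def Lab (d : ℕ) (ζ : kˣ) (y : Y) (θ : Y → ℂ) (c : D.R → ℂˣ) : Prop :=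
  ∀ v, θ (nrm F d (y * D.τ (coch v ζ) * y⁻¹)) = chr v c

theorem exists_prim {e : ℕ} (he : 0 < e) : ∃ ζ : kˣ, IsPrimitiveRoot ζ (p ^ e - 1) := by
  have h1 := Nat.one_lt_pow he.ne' (Fact.out : p.Prime).one_lt
  have : NeZero ((p ^ e - 1 : ℕ) : k) := ⟨by
    rw [Nat.cast_sub h1.le, Nat.cast_pow, CharP.cast_eq_zero, zero_pow he.ne', zero_sub, Nat.cast_one]
    exact neg_ne_zero.2 one_ne_zero⟩
  have h2 : p ^ e - 1 ≠ 0 := by omega
  obtain ⟨ζ, h⟩ := HasEnoughRootsOfUnity.exists_primitiveRoot k (p ^ e - 1)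
  exact ⟨(h.isUnit h2).unit, h.isUnit_unit h2⟩

variable {D} {d e : ℕ} {ζ : kˣ} {y : Y} {w : D.W} {θ θ' : Y → ℂ} {c c' : D.R → ℂˣ}

theorem F_cj_τ (hw : D.Rp w (y⁻¹ * F y)) (c : D.R → kˣ) :
    F (y * D.τ c * y⁻¹) = y * D.τ (mon (D.Wm w * D.Mx) c) * y⁻¹ := by
  rw [map_mul, map_mul, map_inv, D.F_τ, mon_mul, ← D.conj_τ hw]
  group

theorem Lvl.tor (L : Lvl D d e) (hy : y ∈ G) (hw : D.Rp w (y⁻¹ * F y)) : Tor F d (p ^ e) (cj y D.T) where
  two_le := Nat.one_lt_pow L.e_pos.ne' (Fact.out : p.Prime).one_lt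
  comm _ ha _ hb := (D.conj hy ⟨w, hw⟩).T_comm ha hb
  maps _ ht := (D.conj hy ⟨w, hw⟩).F_mem_T ht
  frob t ht := by
    obtain ⟨c, rfl⟩ := ((D.conj hy ⟨w, hw⟩).mem_T t).1 ht
    rw [Datum.F_pow_τ, D.conj_Mx, hw.pr_eq, L.pow, mon_zsmul, mon_one, ← Nat.cast_pow, zpow_natCast, map_pow]
  div _ ht _ hs := (D.conj hy ⟨w, hw⟩).exists_pow_eq_T ht hs

theorem τ_mem_cj (y : Y) (c : D.R → kˣ) : y * D.τ c * y⁻¹ ∈ cj y D.T := conj_mem_cj.2 (D.τ_mem c)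

section

variable (L : Lvl D d e) (hζ : IsPrimitiveRoot ζ (p ^ e - 1)) (hy : y ∈ G) (hw : D.Rp w (y⁻¹ * F y))
include L hζ hy hw

theorem lvl_fix (v : D.R → ℤ) : (F ^ d) (y * D.τ (coch v ζ) * y⁻¹) = y * D.τ (coch v ζ) * y⁻¹ := by
  have := (L.tor hy hw).two_le
  rw [(L.tor hy hw).frob _ (τ_mem_cj y _), conj_pow, ← map_pow, ← map_pow, ← Nat.sub_add_cancel (by omega : 1 ≤ p ^ e),
    pow_succ, hζ.pow_eq_one, one_mul]

theorem exists_coch {t : Y} (ht : t ∈ cj y D.T) (h : (F ^ d) t = t) : ∃ v, t = y * D.τ (coch v ζ) * y⁻¹ := by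
  have h0 := (L.tor hy hw).two_le
  have : NeZero (p ^ e - 1) := ⟨by omega⟩
  rw [(L.tor hy hw).frob _ ht] at h
  obtain ⟨c, rfl⟩ := ((D.conj hy ⟨w, hw⟩).mem_T t).1 ht
  rw [← map_pow, (D.conj hy ⟨w, hw⟩).τ_inj.eq_iff] at h
  have h1 : ∀ j, ∃ i : ℕ, ζ ^ i = c j := fun j => by
    obtain ⟨i, -, hi⟩ := hζ.eq_pow_of_mem_rootsOfUnity (ξ := c j) (by
      rw [mem_rootsOfUnity, ← mul_left_inj (c j), ← pow_succ, Nat.sub_add_cancel (by omega), one_mul]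
      exact congrFun h j)
    exact ⟨i, hi⟩
  choose x hx using h1
  refine ⟨fun j => x j, (D.conj_tau hy ⟨w, hw⟩ c).trans ?_⟩
  congr 3
  funext j
  rw [coch_apply, zpow_natCast, hx]

theorem nrm_mem (v : D.R → ℤ) : nrm F d (y * D.τ (coch v ζ) * y⁻¹) ∈ cj y D.T ⊓ GF F G :=
  have h := (L.tor hy hw).nrm_mem d (τ_mem_cj y (coch v ζ))
  ⟨h, (D.conj hy ⟨w, hw⟩).T_le_G h, (L.tor hy hw).nrm_fix d (τ_mem_cj y _) (lvl_fix L hζ hy hw v)⟩

theorem exists_nrm {t : Y} (ht : t ∈ cj y D.T ⊓ GF F G) : ∃ v, t = nrm F d (y * D.τ (coch v ζ) * y⁻¹) := by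
  obtain ⟨a, ha, h1, h2⟩ := (L.tor hy hw).nrm_surj one_pos ht.1 ht.2.2
  rw [pow_one] at h1
  obtain ⟨v, rfl⟩ := exists_coch L hζ hy hw ha h1
  exact ⟨v, by rw [← h2, mul_one]⟩

theorem exists_lab (hθ : IsLin (cj y D.T ⊓ GF F G) θ) : ∃ c, Lab D d ζ y θ c := by
  refine exists_chr _ ?_ fun a b => ?_
  · rw [show coch (0 : D.R → ℤ) ζ = 1 from funext fun _ => zpow_zero _, map_one, mul_one, mul_inv_cancel, nrm_one,
      hθ.one]
  · rw [← hθ.mul _ (nrm_mem L hζ hy hw a) _ (nrm_mem L hζ hy hw b),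
      ← (L.tor hy hw).nrm_mul d (τ_mem_cj y _) (τ_mem_cj y _), coch_add, map_mul, conj_mul]

theorem Lab.fx (h : Lab D d ζ y θ c) : Fx D w c := fun v => Units.ext <| by
  rw [← h, ← h, ← mon_coch, ← F_cj_τ hw, nrm_map (α := F) (fun _ => rfl),
    (mem_GF.1 (nrm_mem L hζ hy hw v).2).2]

theorem Lab.ext (h : Lab D d ζ y θ c) (h' : Lab D d ζ y θ' c) : ∀ t ∈ cj y D.T ⊓ GF F G, θ t = θ' t := fun t ht => by
  obtain ⟨v, rfl⟩ := exists_nrm L hζ hy hw ht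
  rw [h, h']

theorem exists_theta (hc : Fx D w c) : ∃ θ, IsLin (cj y D.T ⊓ GF F G) θ ∧ Lab D d ζ y θ c := by
  have := finite_inf_GF D (cj y D.T)
  have := finite_Fx D w
  choose f hf using fun θ : ↥(cj y D.T ⊓ GF F G) →* ℂˣ => exists_lab L hζ hy hw (isLin_lin θ)
  have h1 : Function.Bijective fun θ => (⟨f θ, (hf θ).fx L hζ hy hw⟩ : {c // Fx D w c}) := by
    rw [Nat.bijective_iff_injective_and_card, card_Fx,
      card_hom (K := cj y D.T ⊓ GF F G) fun a ha b hb => (L.tor hy hw).comm a ha.1 b hb.1, D.card_cj_TF hy hw]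
    refine ⟨fun θ θ' h => MonoidHom.ext fun t => Units.ext ?_, rfl⟩
    rw [← lin_coe, ← lin_coe]
    exact (hf θ).ext L hζ hy hw (by rw [show f θ = f θ' from congrArg Subtype.val h]; exact hf θ') t t.2
  obtain ⟨θ, h⟩ := h1.2 ⟨c, hc⟩
  exact ⟨_, isLin_lin θ, by rw [← show f θ = c from congrArg Subtype.val h]; exact hf θ⟩

theorem geo_iff {y' : Y} (hy' : y' ∈ G) (h : Lab D d ζ y θ c) (h' : Lab D d ζ y' θ' c') :
    Geo F G d (cj y D.T) θ (cj y' D.T) θ' ↔ ∃ u, Rel D u c c' := by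
  have key : ∀ {m u}, D.Rp u m → ∀ v, y' * m * y⁻¹ * (y * D.τ (coch v ζ) * y⁻¹) * (y' * m * y⁻¹)⁻¹ =
      y' * D.τ (coch (D.Wm u *ᵥ v) ζ) * y'⁻¹ := fun hm v => by
    rw [← mon_coch, ← D.conj_τ hm]
    group
  constructor
  · rintro ⟨g, hg, h1, h2⟩
    have h3 : y'⁻¹ * (g * y) ∈ D.NN := St.mem_NN_of_cj D hy' (mul_mem hg hy) (by rw [cj_mul, h1])
    refine ⟨D.pr (y'⁻¹ * (g * y)), fun v => Units.ext ?_⟩
    rw [← h, ← h', ← key (D.rp_pr h3), ← h2 _ (τ_mem_cj y _) (lvl_fix L hζ hy hw v)]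
    congr 2
    group
  · rintro ⟨u, hu⟩
    obtain ⟨m, hm, -⟩ := D.exists_rp u
    refine ⟨y' * m * y⁻¹, mul_mem (mul_mem hy' hm.mem_G) (inv_mem hy), ?_, fun t ht h1 => ?_⟩
    · rw [← cj_mul, inv_mul_cancel_right, cj_mul, D.cj_T ⟨u, hm⟩]
    · obtain ⟨v, rfl⟩ := exists_coch L hζ hy hw ht h1
      rw [key hm, h, h', hu]

theorem geo_of_conj {T' : Subgroup Y} {h : Y} (hh : h ∈ GF F G) (hc : Conj (GF F G) (cj y D.T) θ T' θ' h) :
    Geo F G d (cj y D.T) θ T' θ' := ⟨h, hh.1, hc.1, fun t ht h1 => by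
  obtain ⟨v, rfl⟩ := exists_coch L hζ hy hw ht h1
  rw [← hc.2 _ (nrm_mem L hζ hy hw v)]
  exact congrArg θ' (nrm_map (α := MulAut.conj h) (fun z => by
    simp only [MulAut.conj_apply, map_mul, map_inv, show F h = h from hh.2]) d _)⟩

end

/-- every class contains a pair for which `± R_T θ` is a character -/
theorem exists_tru (hZ : CZ D) (L : Lvl D d e) (hζ : IsPrimitiveRoot ζ (p ^ e - 1)) (hc : Fx D w c) :
    ∃ y ∈ G, ∃ w', D.Rp w' (y⁻¹ * F y) ∧ ∃ θ c' v, IsLin (cj y D.T ⊓ GF F G) θ ∧ Lab D d ζ y θ c' ∧ Rel D v c' c ∧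
      Tru D (cj y D.T) θ := by
  obtain ⟨w', c', v, h1, h2, l, lam, h3, h4, h5, h6⟩ := exists_good hZ hc
  obtain ⟨y, hy, hw⟩ := D.exists_type w'
  obtain ⟨θ, hθ, h7⟩ := exists_theta L hζ hy hw h2
  obtain ⟨ε, h8, h9⟩ := exists_char (D := D.conj hy ⟨w', hw⟩) h3 h4
    (fun a ha => by rw [D.conj_g, hw.pr_eq]; exact h5 a ha) hθ fun u m hm hF hu hc => h6 u hu fun x => Units.ext (by
      have hm' : D.Rp u (y⁻¹ * m * y) := (D.conj_rp_iff hy ⟨w', hw⟩).1 (by simpa [mul_assoc] using hm)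
      rw [← h7, ← h7, ← mon_coch, ← D.conj_τ hm', ← hc _ (nrm_mem L hζ hy hw x)]
      refine congrArg θ (Eq.trans ?_ (nrm_map (α := MulAut.conj m) (fun z => by
        simp only [MulAut.conj_apply, map_mul, map_inv, hF]) d _))
      congr 1
      rw [MulAut.conj_apply]
      group)
  refine ⟨y, hy, w', hw, θ, c', v, hθ, h7, h1, ε, h8, ?_⟩
  convert h9 using 1
  funext g
  exact congrArg (ε • ·) (R_eq' ((D.pair_conj hy ⟨w', hw⟩).1 (D.conj hy ⟨w', hw⟩).pair_self) θ g g.2)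

end Cfsg.Agent.DL.PP
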