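import Cfsg.Agent.DL.PP.Reg
import Cfsg.Agent.DL.PP.Lat
import Cfsg.Agent.DL.St.Main

/-!
# The irreducible characters of degree prime to `p` (helper89)

For a quasi-split datum with connected centre (`CZ`) in which the linear characters of `U^F` factor through the
simple root coordinates (`HN`), the irreducible characters of degree prime to `p` are in bijection with the geometric
conjugacy classes of pairs `(T, θ)` : `exists_ov`, `Ov.eq_of_geo`, `Ov.geo`, `exists_ov_geo`.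
-/

set_option autoImplicit false
set_option maxHeartbeats 400000
set_option linter.unusedSectionVars false

namespace Cfsg.Agent.DL.PP

open Cfsg CoxeterSystem Cfsg.Agent.ChevalleyStructure.CoxeterGeom Cfsg.Agent.Tits.Roots Cfsg.Agent.Nodes.Reps
  Cfsg.Agent.Nodes.BNOf Cfsg.Agent.DL.Uni Cfsg.Agent.DL.Asm Cfsg.Agent.DL.St Cfsg.Agent.H40.OC
  Cfsg.Agent.Characters.Core
open scoped ComplexConjugate

theorem bij_of_card {Ω S : Type} [Finite S] {r : Ω → S → Prop} (h1 : ∀ ω, ∃ s, r ω s)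
    (h2 : ∀ ω ω' s, r ω s → r ω' s → ω = ω') (hc : Nat.card S ≤ Nat.card Ω) :
    (∀ s, ∃ ω, r ω s) ∧ ∀ ω s s', r ω s → r ω s' → s = s' := by
  classical
  have h3 : ∀ f : Ω → S, (∀ ω, r ω (f ω)) → ∀ s, ∃ ω, f ω = s := fun f hf =>
    (Function.Injective.bijective_of_nat_card_le (f := f) (fun a b e => h2 _ _ _ (hf a) (by rw [e]; exact hf b)) hc).2
  choose f hf using h1
  refine ⟨fun s => (h3 f hf s).imp fun ω e => by rw [← e]; exact hf ω, fun ω s s' h h' => ?_⟩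
  have h4 : ∀ ω', r ω' (Function.update f ω s' ω') := fun ω' => by
    rcases eq_or_ne ω' ω with rfl | e
    · rwa [Function.update_self]
    · rw [Function.update_of_ne e]; exact hf _
  obtain ⟨ω', e⟩ := h3 _ h4 s
  rw [← e, h2 ω' _ _ (e ▸ h4 ω') h, Function.update_self]

theorem deg_of_eq {H : Type} [Group H] {χ : H → ℂ} {n : ℕ} (h : χ 1 = n) : charDegree χ = n := by
  rw [charDegree, h, Complex.natCast_re, Nat.floor_natCast]

theorem deg_cast {H : Type} [Group H] {χ : H → ℂ} (h : IsCharacter H χ) : (charDegree χ : ℂ) = χ 1 := by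
  obtain ⟨n, e⟩ := isCharacter_apply_one h
  rw [deg_of_eq e, e]

theorem exists_constituent {H : Type} [Group H] [Fintype H] {φ : H → ℂ} (h : IsCharacter H φ) {p : ℕ}
    (hp : ¬ p ∣ charDegree φ) : ∃ χ, IsIrrCharacter H χ ∧ ¬ p ∣ charDegree χ ∧ classInner φ χ ≠ 0 := by
  have := @Fintype.ofFinite _ (finite_irr (G := H))
  obtain ⟨m, rfl⟩ := exists_nat_comb h
  by_contra! h1
  refine hp ?_
  rw [deg_of_eq (n := ∑ ψ : IrrCharacter H, m ψ * charDegree (ψ : H → ℂ)) (by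
    simp [Finset.sum_apply, fun ψ : IrrCharacter H => deg_cast (isIrr_isCharacter ψ.2)])]
  refine Finset.dvd_sum fun ψ _ => ?_
  by_cases h2 : p ∣ charDegree (ψ : H → ℂ)
  · exact h2.mul_left _
  · have := h1 _ ψ.2 h2
    rw [classInner_sum_nsmul_irr, Nat.cast_eq_zero] at this
    simp [this]

theorem inner_ne_zero {H : Type} [Group H] [Fintype H] {φ ψ χ : H → ℂ} (h : IsCharacter H φ) (h' : IsCharacter H ψ)
    (hχ : IsIrrCharacter H χ) (h1 : classInner φ χ ≠ 0) (h2 : classInner ψ χ ≠ 0) : classInner φ ψ ≠ 0 := by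
  have := @Fintype.ofFinite _ (finite_irr (G := H))
  choose a ha using fun χ : IrrCharacter H => classInner_isNat h (isIrr_isCharacter χ.2)
  choose b hb using fun χ : IrrCharacter H => classInner_isNat h' (isIrr_isCharacter χ.2)
  rw [classInner_eq_sum (isCharacter_isClassFunction h) (isCharacter_isClassFunction h')]
  simp only [ha, hb, map_natCast, ← Nat.cast_mul, ← Nat.cast_sum, Nat.cast_ne_zero, ne_eq, Finset.sum_eq_zero_iff]
  intro h3
  rcases Nat.mul_eq_zero.1 (h3 ⟨χ, hχ⟩ (Finset.mem_univ _)) with e | e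
  · exact h1 ((ha ⟨χ, hχ⟩).trans (Nat.cast_eq_zero.2 e))
  · exact h2 ((hb ⟨χ, hχ⟩).trans (Nat.cast_eq_zero.2 e))

variable {p : ℕ} [Fact p.Prime] {k : Type} [Field k] [CharP k p] {Y : Type} [Group Y] {N : Type} [Fintype N]
  [DecidableEq N] {ρ : Y →* GL N k} {F : MulAut Y} {G : Subgroup Y} [IsAlgClosed k] (D : Datum p ρ F G)

/-- the linear characters of `U^F` are trivial on the elements with trivial simple coordinates -/
def HN : Prop := ∀ f : ↥(D.U ⊓ GF F G) →* ℂˣ, ∀ u : ↥(D.U ⊓ GF F G), (∀ i, kap D i u = 0) → f u = 1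

/-- `χ` is a constituent of the character `± R_T θ` -/
structure Ov [Fintype (GF F G)] (T : Subgroup Y) (θ : Y → ℂ) (χ : GF F G → ℂ) : Prop where
  tor : T ∈ tori D
  lin : IsLin (T ⊓ GF F G) θ
  tru : Tru D T θ
  ne : classInner (res (GF F G) (R D T θ)) χ ≠ 0

variable {D} [Fintype (GF F G)] {T T' : Subgroup Y} {θ θ' : Y → ℂ} {χ χ' : GF F G → ℂ} {d e : ℕ}

theorem card_pp_le (h : D.QS) (hZ : CZ D) (hN : HN D) :
    Nat.card {χ : IrrCharacter (GF F G) // ¬ p ∣ charDegree (χ : GF F G → ℂ)} ≤ Nat.card (Quotient (clsSetoid D)) := by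
  classical
  have := @Fintype.ofFinite _ (finite_irr (G := GF F G))
  have := Fintype.ofFinite (UH D)
  have := Fintype.ofFinite (TH D)
  have := Fintype.ofFinite (Ob D)
  obtain ⟨lam, hl⟩ := exists_lam h hZ
  refine Nat.cast_le.1 (le_trans ?_ (sum_mr_le_cls h hZ))
  rw [Nat.card_eq_fintype_card, Fintype.card_subtype, Finset.card_filter, Nat.cast_sum]
  refine Finset.sum_le_sum fun χ _ => ?_
  obtain ⟨c, n, h1, h2, h3⟩ := mr_congr (sys h hZ) hl (D.isPGroup_U.comap_subtype) (fun f u hu =>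
    hN (f.comp (MonoidHom.mk' (fun x => ⟨⟨x.1, x.2.2⟩, x.2.1⟩) fun _ _ => rfl)) ⟨u, u.2, u.1.2⟩ fun i => (hu _).2 i rfl)
    (χ := χ.1) (isCharacter_comp (UH D).subtype (isIrr_isCharacter χ.2))
    fun t _ u _ => by simpa using isIrr_isClassFunction χ.2 u t⁻¹
  rw [h1, deg_of_eq h2, Complex.normSq_intCast]
  split_ifs with h4
  · simpa using mul_self_nonneg (c : ℝ)
  · have : c ≠ 0 := fun e => h4 (by rwa [e, sub_zero, Int.natCast_dvd_natCast] at h3)
    exact_mod_cast mul_self_pos.2 this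

omit [Fintype (GF F G)] in
theorem exists_y (hT : T ∈ tori D) : ∃ y ∈ G, ∃ w, D.Rp w (y⁻¹ * F y) ∧ T = cj y D.T := by
  obtain ⟨y, hy, rfl, h⟩ := hT
  obtain ⟨w, hw⟩ := (D.stable_iff hy).1 h
  exact ⟨y, hy, w, hw, rfl⟩

theorem Tru.exists_ov (h : Tru D T θ) (hT : T ∈ tori D) (hθ : IsLin (T ⊓ GF F G) θ) :
    ∃ χ, IsIrrCharacter (GF F G) χ ∧ ¬ p ∣ charDegree χ ∧ Ov D T θ χ := by
  obtain ⟨ε, h1, h2⟩ := id h
  obtain ⟨St, hS⟩ := stD D
  obtain ⟨n, hn⟩ := hS.card_dvd (sys' D) hT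
  obtain ⟨χ, h3, h4, h5⟩ := exists_constituent h2 (p := p) fun e => not_dvd_pc' (p := p) (GF F G) (by
    have h3 : (charDegree (res (GF F G) (ε • R D T θ)) : ℂ) = ε * R D T θ 1 := deg_cast h2
    rw [hS.degree (sys' D) hT, hθ.one, hn, Nat.cast_mul, mul_div_assoc, mul_div_cancel_left₀ _ ((sys' D).cardT_ne T),
      mul_one, ← mul_assoc] at h3
    have h4 : (charDegree (res (GF F G) (ε • R D T θ)) : ℤ) = n ∨
        (charDegree (res (GF F G) (ε • R D T θ)) : ℤ) = -n := by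
      rcases h1 with rfl | rfl <;> rcases hS.eps_sign (sys' D) hT with e | e <;> rw [e] at h3 <;>
        simp only [mul_one, one_mul, mul_neg, neg_mul, neg_neg] at h3
      exacts [.inl (by exact_mod_cast h3), .inr (by exact_mod_cast h3), .inr (by exact_mod_cast h3),
        .inl (by exact_mod_cast h3)]
    rw [hn]
    refine Dvd.dvd.mul_left (Int.natCast_dvd_natCast.1 ?_) _
    rcases h4 with h4 | h4
    · exact h4 ▸ Int.natCast_dvd_natCast.2 e
    · exact Int.dvd_neg.1 (h4 ▸ Int.natCast_dvd_natCast.2 e))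
  exact ⟨χ, h3, h4, hT, hθ, h, fun e => h5 ((classInner_smul_left ε _ χ).trans (mul_eq_zero_of_right _ e))⟩

/-- two true pairs with a common constituent are geometrically conjugate -/
theorem Ov.geo (L : Lvl D d e) (hχ : IsIrrCharacter (GF F G) χ) (h : Ov D T θ χ) (h' : Ov D T' θ' χ) :
    Geo F G d T θ T' θ' := by
  obtain ⟨ζ, hζ⟩ := exists_prim (p := p) (k := k) L.e_pos
  obtain ⟨ε, h1, h2⟩ := h.tru
  obtain ⟨ε', h1', h2'⟩ := h'.tru
  obtain ⟨y, hy, w, hw, rfl⟩ := exists_y h.tor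
  by_contra h3
  refine inner_ne_zero h2 h2' hχ (fun e => ?_) (fun e => ?_) ?_
  · exact mul_ne_zero (by rcases h1 with rfl | rfl <;> simp) h.ne ((classInner_smul_left ε _ χ).symm.trans e)
  · exact mul_ne_zero (by rcases h1' with rfl | rfl <;> simp) h'.ne ((classInner_smul_left ε' _ χ).symm.trans e)
  · rw [← ip_eq_classInner, ip_smul_left, ip_smul_right, (sys' D).ip_R_R_eq_zero h.tor h'.tor h.lin h'.lin
      fun x hx hc => h3 (geo_of_conj L hζ hy hw hx hc), mul_zero, mul_zero]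

section

variable (h : D.QS) (hZ : CZ D) (hN : HN D)
include h hZ hN

theorem main (L : Lvl D d e) {ζ : kˣ} (hζ : IsPrimitiveRoot ζ (p ^ e - 1)) :
    let r := fun (ω : Quotient (clsSetoid D)) (χ : {χ : IrrCharacter (GF F G) // ¬ p ∣ charDegree (χ : GF F G → ℂ)}) =>
      ∃ y ∈ G, ∃ w, D.Rp w (y⁻¹ * F y) ∧ ∃ θ c, Lab D d ζ y θ c.1 ∧ Quotient.mk _ c = ω ∧ Ov D (cj y D.T) θ χ.1
    (∀ χ, ∃ ω, r ω χ) ∧ ∀ ω χ χ', r ω χ → r ω χ' → χ = χ' := by
  have := finite_irr (G := GF F G)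
  refine bij_of_card (fun ω => ?_) ?_ (card_pp_le h hZ hN)
  · obtain ⟨⟨c, w, hc⟩, rfl⟩ := ω.exists_rep
    obtain ⟨y, hy, w', hw, θ, c', v, h1, h2, h3, h4⟩ := exists_tru hZ L hζ hc
    obtain ⟨χ, h5, h6, h7⟩ := h4.exists_ov ⟨y, hy, rfl, (D.stable_iff hy).2 ⟨w', hw⟩⟩ h1
    exact ⟨⟨⟨χ, h5⟩, h6⟩, y, hy, w', hw, θ, ⟨c', w', h2.fx L hζ hy hw⟩, h2, Quotient.sound ⟨v, h3⟩, h7⟩
  · rintro _ _ χ ⟨y, hy, w, hw, θ, c, h1, rfl, h2⟩ ⟨y', hy', w', hw', θ', c', h1', rfl, h2'⟩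
    exact Quotient.sound ((geo_iff L hζ hy hw hy' h1 h1').1 (h2.geo L χ.1.2 h2'))

/-- every irreducible character of degree prime to `p` is a constituent of a character `± R_T θ` -/
theorem exists_ov (hχ : IsIrrCharacter (GF F G) χ) (hp : ¬ p ∣ charDegree χ) : ∃ T θ, Ov D T θ χ := by
  obtain ⟨d, e, L⟩ := exists_lvl D
  obtain ⟨ζ, hζ⟩ := exists_prim (p := p) (k := k) L.e_pos
  obtain ⟨_, y, -, -, -, θ, -, -, -, h1⟩ := (main h hZ hN L hζ).1 ⟨⟨χ, hχ⟩, hp⟩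
  exact ⟨_, θ, h1⟩

/-- geometrically conjugate true pairs have the same unique constituent of degree prime to `p` -/
theorem eq_of_geo (L : Lvl D d e) (hχ : IsIrrCharacter (GF F G) χ) (hp : ¬ p ∣ charDegree χ)
    (hχ' : IsIrrCharacter (GF F G) χ') (hp' : ¬ p ∣ charDegree χ') (h1 : Ov D T θ χ) (h1' : Ov D T' θ' χ')
    (hg : Geo F G d T θ T' θ') : χ = χ' := by
  obtain ⟨ζ, hζ⟩ := exists_prim (p := p) (k := k) L.e_pos
  obtain ⟨y, hy, w, hw, rfl⟩ := exists_y h1.tor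
  obtain ⟨y', hy', w', hw', rfl⟩ := exists_y h1'.tor
  obtain ⟨c, hc⟩ := exists_lab L hζ hy hw h1.lin
  obtain ⟨c', hc'⟩ := exists_lab L hζ hy' hw' h1'.lin
  exact congrArg (·.1.1) ((main h hZ hN L hζ).2 _ ⟨⟨χ, hχ⟩, hp⟩ ⟨⟨χ', hχ'⟩, hp'⟩
    ⟨y, hy, w, hw, θ, ⟨c, w, hc.fx L hζ hy hw⟩, hc, Quotient.sound ((geo_iff L hζ hy hw hy' hc hc').1 hg), h1⟩
    ⟨y', hy', w', hw', θ', ⟨c', w', hc'.fx L hζ hy' hw'⟩, hc', rfl, h1'⟩)

end

/-- every pair is geometrically conjugate to a true pair -/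
theorem exists_ov_geo (hZ : CZ D) (L : Lvl D d e) (hT : T ∈ tori D) (hθ : IsLin (T ⊓ GF F G) θ) :
    ∃ T' θ' χ, IsIrrCharacter (GF F G) χ ∧ ¬ p ∣ charDegree χ ∧ Ov D T' θ' χ ∧ Geo F G d T' θ' T θ := by
  obtain ⟨ζ, hζ⟩ := exists_prim (p := p) (k := k) L.e_pos
  obtain ⟨y, hy, w, hw, rfl⟩ := exists_y hT
  obtain ⟨c, hc⟩ := exists_lab L hζ hy hw hθ
  obtain ⟨y', hy', w', hw', θ', c', v, h1, h2, h3, h4⟩ := exists_tru hZ L hζ (hc.fx L hζ hy hw)
  obtain ⟨χ, h5, h6, h7⟩ := h4.exists_ov ⟨y', hy', rfl, (D.stable_iff hy').2 ⟨w', hw'⟩⟩ h1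
  exact ⟨_, θ', χ, h5, h6, h7, (geo_iff L hζ hy' hw' hy h2 hc).2 ⟨v, h3⟩⟩

end Cfsg.Agent.DL.PP
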